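import Cfsg.Agent.Lib.JR.PSL

/-! Automorphisms of `PSL₂(F)` stabilizing the unipotent subgroup. -/

set_option autoImplicit false

namespace CfsgLib.WApp

open Subgroup CfsgLib.H1 CfsgLib.H5 CfsgLib.JR Matrix MatrixGroups

variable {F : Type*} [Field F]

/-- the image of an upper transvection -/
def uu (x : F) : PSL(2, F) := pr F (upT x)

/-- the lower transvection -/
abbrev loT (c : F) : SL(2, F) := SpecialLinearGroup.transvection one_ne_zero c

theorem loT_00 (c : F) : loT c 0 0 = 1 := by simp [SpecialLinearGroup.transvection_coe]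
theorem loT_01 (c : F) : loT c 0 1 = 0 := by simp [SpecialLinearGroup.transvection_coe]
theorem loT_10 (c : F) : loT c 1 0 = c := by simp [SpecialLinearGroup.transvection_coe]
theorem loT_11 (c : F) : loT c 1 1 = 1 := by simp [SpecialLinearGroup.transvection_coe]

theorem uu_add (x y : F) : uu (x + y) = uu x * uu y :=
  (congrArg (pr F) (SpecialLinearGroup.transvection_add _ x y)).trans (map_mul _ _ _)

theorem uu_zero : uu (0 : F) = 1 :=
  (congrArg (pr F) (SpecialLinearGroup.transvection_coeff_zero _)).trans (map_one _)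

theorem uu_neg (x : F) : uu (-x) = (uu x)⁻¹ :=
  eq_inv_of_mul_eq_one_left (by rw [← uu_add, neg_add_cancel, uu_zero])

theorem uu_pow (x : F) (n : ℕ) : uu x ^ n = uu (n * x) := by
  induction n with
  | zero => simp [uu_zero]
  | succ n ih => rw [pow_succ, ih, ← uu_add, Nat.cast_succ, add_one_mul]

theorem uu_inj : Function.Injective (uu : F → PSL(2, F)) := fun x y h => by
  have : pr F (upT (x - y)) = 1 := by
    change uu (x - y) = 1
    rw [sub_eq_add_neg, uu_add, uu_neg, h, mul_inv_cancel]
  exact sub_eq_zero.1 ((SpecialLinearGroup.transvection_mem_center_iff _ _).1 (pr_eq_one.1 this))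

theorem conj_upT {g : SL(2, F)} (h : g 1 0 = 0) (x : F) :
    pr F g * uu x * (pr F g)⁻¹ = uu (g 0 0 ^ 2 * x) := by
  have hd := SL2_det g
  rw [uu, uu, ← map_inv, ← map_mul, ← map_mul]
  congr 1
  rw [h] at hd
  apply SL2_ext <;> simp only [SL2_mul_apply, SL2_inv_00, SL2_inv_01, SL2_inv_10, SL2_inv_11,
    upT_00, upT_01, upT_10, upT_11, h]
  · linear_combination hd
  · ring
  · ring
  · linear_combination hd

theorem conj_uu {g : PSL(2, F)} {y : F} (h : g * uu 1 * g⁻¹ = uu y) :
    ∃ c : F, ∀ x, g * uu x * g⁻¹ = uu (c * x) := by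
  obtain ⟨g, rfl⟩ := pr_surj g
  refine ⟨_, conj_upT ?_⟩
  rw [uu, uu, ← map_inv, ← map_mul, ← map_mul] at h
  have h1 : (g * upT 1 * g⁻¹ : SL(2, F)) 1 0 = 0 := by
    rcases pr_eq h with e | e <;> rw [e]
    · exact upT_10 y
    · rw [neg_apply', upT_10, neg_zero]
  simp only [SL2_mul_apply, SL2_inv_00, SL2_inv_10, upT_00, upT_01, upT_10, upT_11] at h1
  exact pow_eq_zero_iff two_ne_zero |>.1 (by linear_combination -h1)

/-- an automorphism stabilizing the unipotent subgroup acts on it semilinearly -/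
theorem semi [Finite F] (h2 : (2 : F) ≠ 0) (α : MulAut PSL(2, F))
    (hα : ∀ x, ∃ y, α (uu x) = uu y) :
    ∃ (c : F) (σ : F ≃+* F), c ≠ 0 ∧ ∀ x, α (uu x) = uu (c * σ x) := by
  choose θ hθ using hα
  have hadd : ∀ x y, θ (x + y) = θ x + θ y := fun x y => uu_inj (by
    rw [← hθ, uu_add, map_mul, hθ, hθ, uu_add])
  have hinj : Function.Injective θ := fun x y e => uu_inj (α.injective (by rw [hθ, hθ, e]))
  have h0 : θ 0 = 0 := by simpa using hadd 0 0
  have h1 : θ 1 ≠ 0 := fun e => one_ne_zero (hinj (e.trans h0.symm))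
  have hsq : ∀ a : F, ∃ c, ∀ x, θ (a ^ 2 * x) = c * θ x := fun a => by
    by_cases ha : a = 0
    · exact ⟨0, fun x => by simp [ha, h0]⟩
    let d : SL(2, F) := ⟨!![a, 0; 0, a⁻¹], by simp [det_fin_two, ha]⟩
    have e1 : ∀ x, α (pr F d) * uu (θ x) * (α (pr F d))⁻¹ = uu (θ (a ^ 2 * x)) := fun x => by
      rw [← hθ, ← hθ, ← map_inv, ← map_mul, ← map_mul, conj_upT rfl]; rfl
    obtain ⟨x, hx⟩ := Finite.surjective_of_injective hinj 1
    obtain ⟨c, hc⟩ := conj_uu (hx ▸ e1 x)
    exact ⟨c, fun x => uu_inj (by rw [← e1, hc])⟩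
  have hmul : ∀ a x, θ (a * x) = θ a / θ 1 * θ x := fun a => by
    obtain ⟨c, hc⟩ := hsq ((a + 1) / 2)
    obtain ⟨c', hc'⟩ := hsq ((a - 1) / 2)
    have e : ∀ x, θ (a * x) = (c - c') * θ x := fun x => by
      have := hadd (a * x) (((a - 1) / 2) ^ 2 * x)
      rw [show a * x + ((a - 1) / 2) ^ 2 * x = ((a + 1) / 2) ^ 2 * x by field_simp; ring, hc, hc']
        at this
      linear_combination -this
    intro x
    have := e 1
    rw [mul_one] at this
    rw [e, this, mul_div_cancel_right₀ _ h1]
  let f : F →+* F :=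
    { toFun := fun x => θ x / θ 1
      map_one' := div_self h1
      map_zero' := by rw [h0, zero_div]
      map_add' := fun x y => by rw [hadd, add_div]
      map_mul' := fun x y => by rw [hmul, mul_div_assoc] }
  refine ⟨θ 1, RingEquiv.ofBijective f (Finite.injective_iff_bijective.1 f.injective), h1,
    fun x => (hθ x).trans (congrArg uu ?_)⟩
  exact (mul_div_cancel₀ _ h1).symm

theorem braid : uu (1 : F) * pr F (loT (-1)) * uu 1 = pr F (loT (-1)) * uu 1 * pr F (loT (-1)) := by
  rw [uu, ← map_mul, ← map_mul, ← map_mul, ← map_mul]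
  congr 1
  apply SL2_ext <;> simp only [SL2_mul_apply, upT_00, upT_01, upT_10, upT_11, loT_00, loT_01,
    loT_10, loT_11] <;> ring

theorem eq_of_braid (h2 : (2 : F) ≠ 0) {y : PSL(2, F)} (h : uu 1 * y * uu 1 = y * uu 1 * y)
    (h1 : y ≠ uu 1) : ∃ s : F, y = uu s * pr F (loT (-1)) * (uu s)⁻¹ := by
  have key : ∀ Y : SL(2, F), upT 1 * Y * upT 1 = Y * upT 1 * Y → Y ≠ upT 1 →
      ∃ s : F, pr F Y = uu s * pr F (loT (-1)) * (uu s)⁻¹ := fun Y e hY => by
    have ht : Y 0 0 + Y 1 1 = 2 := by
      have := SL2_trace_conj (upT 1 * Y) (upT 1)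
      rw [e, mul_assoc Y, mul_inv_cancel_right, upT_00, upT_11] at this
      linear_combination this
    have hd := SL2_det Y
    have e1 := congrArg (fun m : SL(2, F) => m 1 0) e
    have e2 := congrArg (fun m : SL(2, F) => m 0 1) e
    simp only [SL2_mul_apply, upT_00, upT_01, upT_10, upT_11] at e1 e2
    have h3 : Y 1 0 * (Y 1 0 + 1) = 0 := by linear_combination -e1 - Y 1 0 * ht
    rcases mul_eq_zero.1 h3 with h4 | h4
    · have h5 : Y 0 0 = 1 := sub_eq_zero.1 (pow_eq_zero_iff two_ne_zero |>.1 (by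
        linear_combination Y 0 0 * ht - hd - Y 0 1 * h4))
      have h6 : Y 1 1 = 1 := by linear_combination ht - h5
      refine absurd (SL2_ext ?_ ?_ ?_ ?_) hY
      · rw [h5, upT_00]
      · rw [h4, h5, h6] at e2
        rw [upT_01]
        linear_combination -e2
      · rw [h4, upT_10]
      · rw [h6, upT_11]
    · refine ⟨1 - Y 0 0, ?_⟩
      rw [← uu_neg, uu, uu, ← map_mul, ← map_mul]
      congr 1
      apply SL2_ext <;> simp only [SL2_mul_apply, upT_00, upT_01, upT_10, upT_11, loT_00, loT_01,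
        loT_10, loT_11]
      · ring
      · linear_combination hd - Y 0 0 * ht + Y 0 1 * h4
      · linear_combination h4
      · linear_combination ht
  obtain ⟨Y, rfl⟩ := pr_surj y
  rw [uu, ← map_mul, ← map_mul, ← map_mul, ← map_mul] at h
  rcases pr_eq h with e | e
  · exact key Y e fun e => h1 (congrArg (pr F) e)
  · rw [← pr_neg]
    refine key (-Y) ?_ fun e => h1 ((pr_neg Y).symm.trans (congrArg (pr F) e))
    simp [e]

/-- an automorphism of order prime to the characteristic centralizing the unipotent subgroup is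
trivial -/
theorem eq_one_of_fix (h2 : (2 : F) ≠ 0) {α : MulAut PSL(2, F)} (hα : ∀ x, α (uu x) = uu x) {r : ℕ}
    (hr : (r : F) ≠ 0) (h : α ^ r = 1) : α = 1 := by
  have hne : pr F (loT (-1)) ≠ uu 1 := fun e => by
    rcases pr_eq e with e | e
    · simpa [loT_10, upT_10] using congrArg (fun m : SL(2, F) => m 1 0) e
    · have := congrArg (fun m : SL(2, F) => m 1 0) e
      simp only [neg_apply', loT_10, upT_10] at this
      simp at this
  obtain ⟨s, hs⟩ := eq_of_braid h2 (y := α (pr F (loT (-1))))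
    (by simpa only [map_mul, hα] using congrArg α braid)
    fun e => hne (α.injective (e.trans (hα 1).symm))
  have h1 : ∀ n : ℕ, (α ^ n) (pr F (loT (-1))) = uu (n * s) * pr F (loT (-1)) * (uu (n * s))⁻¹ :=
    fun n => by
    induction n with
    | zero => simp [uu_zero]
    | succ n ih =>
      rw [pow_succ', MulAut.mul_apply, ih, map_mul, map_mul, map_inv, hα, hs, Nat.cast_succ,
        add_one_mul, uu_add]
      group
  have h3 := h1 r
  rw [h, MulAut.one_apply, ← uu_neg, uu, uu, ← map_mul, ← map_mul] at h3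
  have h4 : s = 0 := by
    rcases pr_eq h3 with e | e
    · have := congrArg (fun m : SL(2, F) => m 0 0) e
      simp only [SL2_mul_apply, upT_00, upT_01, upT_10, upT_11, loT_00, loT_01, loT_10,
        loT_11] at this
      exact (mul_eq_zero.1 (by linear_combination this)).resolve_left hr
    · have := congrArg (fun m : SL(2, F) => m 1 0) e
      simp only [neg_apply', SL2_mul_apply, upT_00, upT_01, upT_10, upT_11, loT_00, loT_01, loT_10,
        loT_11] at this
      exact absurd (by linear_combination -this) h2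
  rw [h4, uu_zero, one_mul, inv_one, mul_one] at hs
  have h5 : ∀ c : F, pr F (loT c) = (uu 1 * pr F (loT (-1)) * uu 1) * uu (-c) *
      (uu 1 * pr F (loT (-1)) * uu 1)⁻¹ := fun c => by
    rw [eq_mul_inv_iff_mul_eq, uu, uu, ← map_mul, ← map_mul, ← map_mul, ← map_mul]
    congr 1
    apply SL2_ext <;> simp only [SL2_mul_apply, upT_00, upT_01, upT_10, upT_11, loT_00, loT_01,
      loT_10, loT_11] <;> ring
  ext x
  obtain ⟨x, rfl⟩ := pr_surj x
  rw [MulAut.one_apply]
  induction x using SL2.transvection_induction with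
  | htransvec i j hij c =>
    fin_cases i <;> fin_cases j
    · exact (hij rfl).elim
    · exact hα c
    · change α (pr F (loT c)) = pr F (loT c)
      rw [h5]
      simp only [map_mul, map_inv, hα, hs]
    · exact (hij rfl).elim
  | hmul A B hA hB => rw [map_mul, map_mul, hA, hB]

end CfsgLib.WApp
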