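import Cfsg.Agent.Lib.WApp.Aut
import Cfsg.Agent.Lib.Suz.FieldAut

/-! Automorphisms of `PSL₂(q)`: a bound for the degree of the field, coprime automorphisms. -/

set_option autoImplicit false

namespace CfsgLib.WApp

open Subgroup CfsgLib.H1 CfsgLib.JR
open scoped MatrixGroups

theorem mod_eight {p f : ℕ} (hf : f ≠ 0) (h : p ^ f % 8 = 3 ∨ p ^ f % 8 = 5) :
    Odd f ∧ (p % 8 = 3 ∨ p % 8 = 5) := by
  have h1 : p % 2 = 1 := by
    by_contra h1
    have : 2 ∣ p ^ f := dvd_pow (by omega) hf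
    omega
  have h2 : ∀ k, (p ^ 2) ^ k % 8 = 1 := fun k => by
    have : p ^ 2 % 8 = 1 := by
      rw [Nat.pow_mod]
      have : p % 8 = 1 ∨ p % 8 = 3 ∨ p % 8 = 5 ∨ p % 8 = 7 := by omega
      rcases this with e | e | e | e <;> rw [e]
    rw [Nat.pow_mod, this, one_pow]
    rfl
  obtain ⟨k, rfl | rfl⟩ := Nat.even_or_odd' f
  · rw [pow_mul, h2] at h
    omega
  · rw [pow_succ, pow_mul, Nat.mul_mod, h2, one_mul, Nat.mod_mod] at h
    exact ⟨⟨k, rfl⟩, h⟩

theorem deg_lt {p f : ℕ} (hp : 3 ≤ p) (h : p ^ f ≤ f * ((p + 1) * p ^ 2)) : f < 5 := by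
  by_contra h5
  obtain ⟨k, rfl⟩ : ∃ k, f = k + 5 := ⟨f - 5, by omega⟩
  have h1 : 4 * (k + 5) < 3 ^ (k + 3) := by
    clear h h5
    induction k with
    | zero => norm_num
    | succ k ih => rw [show k + 1 + 3 = k + 3 + 1 by ring, pow_succ]; omega
  have h2 : 3 ^ (k + 2) ≤ p ^ (k + 2) := Nat.pow_le_pow_left hp _
  rw [show p ^ (k + 5) = p ^ (k + 2) * p * p ^ 2 by ring, ← mul_assoc] at h
  have h3 := Nat.le_of_mul_le_mul_right h (by positivity)
  rw [pow_succ] at h1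
  nlinarith

theorem card_le_of_planes {F : Type*} [Field F] [Finite F] {p f : ℕ} [Fact p.Prime] [CharP F p]
    (hF : Nat.card F = p ^ f) (ι : ZMod p →+* F) (b₀ : F)
    (h : ∀ b, b ∉ Set.range ι → ∃ (c : F) (σ : F ≃+* F) (x₀ x₁ y₀ y₁ : ZMod p),
      c * σ (ι x₀ + ι x₁ * b₀) = 1 ∧ c * σ (ι y₀ + ι y₁ * b₀) = b) :
    p ^ f ≤ f * ((p + 1) * p ^ 2) := by
  have : Finite (F ≃+* F) := Finite.of_injective _ DFunLike.coe_injective
  have h1 := Nat.card_le_card_of_surjective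
    (fun t : (F ≃+* F) × Option (ZMod p) × ZMod p × ZMod p =>
      t.1 ((ι t.2.2.1 + ι t.2.2.2 * b₀) / t.2.1.elim 1 fun i => ι i + b₀)) fun b => by
    by_cases hb : b ∈ Set.range ι
    · obtain ⟨i, rfl⟩ := hb
      exact ⟨(RingEquiv.refl F, none, i, 0), by simp⟩
    obtain ⟨c, σ, x₀, x₁, y₀, y₁, e1, e2⟩ := h b hb
    have e3 : σ ((ι y₀ + ι y₁ * b₀) / (ι x₀ + ι x₁ * b₀)) = b := by
      rw [map_div₀, ← e2, div_eq_iff (right_ne_zero_of_mul_eq_one e1)]
      linear_combination -(σ (ι y₀ + ι y₁ * b₀)) * e1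
    by_cases hx : x₁ = 0
    · refine ⟨(σ, none, y₀ / x₀, y₁ / x₀), e3 ▸ congrArg σ ?_⟩
      simp only [hx, map_zero, zero_mul, add_zero, map_div₀, Option.elim, div_one]
      ring
    · refine ⟨(σ, some (x₀ / x₁), y₀ / x₁, y₁ / x₁), e3 ▸ congrArg σ ?_⟩
      have := (map_ne_zero ι).2 hx
      simp only [map_div₀, Option.elim]
      rw [← mul_div_mul_left _ _ this]
      congr 1 <;> field_simp
  simpa [hF, Nat.card_prod, Suz.card_ringAut hF, pow_two] using h1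

variable {F : Type*} [Field F]

theorem cent_uu {x : F} (hx : x ≠ 0) {y : PSL(2, F)} (h : y * uu x = uu x * y) :
    ∃ z, y = uu z := by
  obtain ⟨g, rfl⟩ := pr_surj y
  have h0 : pr F g * uu x * (pr F g)⁻¹ = uu x := by rw [h, mul_inv_cancel_right]
  have h1 : (g * upT x * g⁻¹ : SL(2, F)) 1 0 = 0 := by
    rw [uu, ← map_inv, ← map_mul, ← map_mul] at h0
    rcases pr_eq h0 with e | e <;> rw [e]
    · exact upT_10 x
    · rw [neg_apply', upT_10, neg_zero]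
  simp only [SL2_mul_apply, SL2_inv_00, SL2_inv_10, upT_00, upT_01, upT_10, upT_11] at h1
  have h2 : g 1 0 = 0 := pow_eq_zero_iff two_ne_zero |>.1
    ((mul_eq_zero.1 (by linear_combination -h1)).resolve_right hx)
  rw [conj_upT h2] at h0
  have h3 : g 0 0 * g 0 0 = 1 := mul_right_cancel₀ hx (by linear_combination uu_inj h0)
  have hd := SL2_det g
  rw [h2] at hd
  have h4 : g 1 1 = g 0 0 := by linear_combination g 0 0 * hd - g 1 1 * h3
  rcases mul_self_eq_one_iff.1 h3 with e | e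
  · refine ⟨g 0 1, congrArg (pr F) (SL2_ext ?_ ?_ ?_ ?_)⟩ <;>
      simp only [upT_00, upT_01, upT_10, upT_11, h2, h4, e]
  · refine ⟨-g 0 1, (pr_neg g).symm.trans (congrArg (pr F) (SL2_ext ?_ ?_ ?_ ?_))⟩ <;>
      simp only [neg_apply', upT_00, upT_01, upT_10, upT_11, h2, h4, e, neg_neg, neg_zero]

variable [Finite F] {p f : ℕ} [hp : Fact p.Prime] [CharP F p] (hq : Nat.card F = p ^ f)
include hq

theorem deg_lt_five (hp3 : 3 ≤ p) (h : ∀ V W : Subgroup PSL(2, F), (∀ v ∈ V, ∃ x, v = uu x) →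
    (∀ v ∈ W, ∃ x, v = uu x) → Nat.card V = p ^ 2 → Nat.card W = p ^ 2 →
      ∃ α : MulAut PSL(2, F), W = V.map α.toMonoidHom) : f < 5 := by
  by_contra h5
  have h2 : (2 : F) ≠ 0 := by
    rw [← Nat.cast_ofNat, Ne, CharP.cast_eq_zero_iff F p]
    exact fun h => by have := Nat.le_of_dvd two_pos h; omega
  let ι : ZMod p →+* F := ZMod.castHom dvd_rfl F
  let V : F → Multiplicative (ZMod p × ZMod p) →* PSL(2, F) := fun b =>
    MonoidHom.mk' (fun x => uu (ι x.toAdd.1 + ι x.toAdd.2 * b)) fun x y => by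
      rw [← uu_add]
      simp only [toAdd_mul, Prod.fst_add, Prod.snd_add, map_add]
      congr 1
      ring
  have hV : ∀ b, b ∉ Set.range ι → Nat.card (V b).range = p ^ 2 := fun b hb => by
    rw [← Nat.card_congr (MonoidHom.ofInjective ((injective_iff_map_eq_one _).2
      fun x hx => ?_)).toEquiv]
    · simp [pow_two]
    have h1 : ι x.toAdd.1 + ι x.toAdd.2 * b = 0 := uu_inj (hx.trans uu_zero.symm)
    have h3 : x.toAdd.2 = 0 := by
      by_contra h3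
      refine hb ⟨-x.toAdd.1 / x.toAdd.2, ?_⟩
      rw [map_div₀, map_neg, div_eq_iff ((map_ne_zero ι).2 h3)]
      linear_combination -h1
    rw [h3, map_zero, zero_mul, add_zero, map_eq_zero] at h1
    exact Multiplicative.toAdd.injective (Prod.ext h1 h3)
  have hVU : ∀ b, ∀ v ∈ (V b).range, ∃ x, v = uu x := by
    rintro b _ ⟨x, rfl⟩
    exact ⟨_, rfl⟩
  obtain ⟨b₀, hb₀⟩ : ∃ b, b ∉ Set.range ι := by
    by_contra! h
    have h1 := Nat.card_le_card_of_surjective ι h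
    rw [hq, Nat.card_zmod] at h1
    exact absurd h1 (not_le.2 (lt_self_pow₀ hp.out.one_lt (by omega)))
  refine h5 (deg_lt hp3 (card_le_of_planes hq ι b₀ fun b hb => ?_))
  obtain ⟨α, hα⟩ := h _ _ (hVU b₀) (hVU b) (hV b₀ hb₀) (hV b hb)
  have key : ∀ y : ZMod p × ZMod p, ∃ x₀ x₁ : ZMod p,
      α (uu (ι x₀ + ι x₁ * b₀)) = uu (ι y.1 + ι y.2 * b) := fun y => by
    obtain ⟨_, ⟨x, rfl⟩, e1⟩ := hα.le ⟨Multiplicative.ofAdd y, rfl⟩
    exact ⟨x.toAdd.1, x.toAdd.2, e1⟩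
  obtain ⟨x₀, x₁, e1⟩ := key (1, 0)
  obtain ⟨y₀, y₁, e2⟩ := key (0, 1)
  simp only [map_one, map_zero, zero_mul, add_zero, one_mul, zero_add] at e1 e2
  obtain ⟨c, σ, -, hσ⟩ := semi h2 α fun x => cent_uu one_ne_zero (by
    rw [← e1, ← map_mul, ← map_mul, ← uu_add, ← uu_add, add_comm])
  exact ⟨c, σ, x₀, x₁, y₀, y₁, uu_inj ((hσ _).symm.trans e1), uu_inj ((hσ _).symm.trans e2)⟩

theorem aut_eq_one (h2 : (2 : F) ≠ 0) {r : ℕ} (hr : r.Prime) (hr2 : r ≠ 2)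
    (hrP : ¬ r ∣ Nat.card PSL(2, F)) (hrf : ¬ r ∣ f) {α : MulAut PSL(2, F)} (hα : α ^ r = 1) :
    α = 1 := by
  have := Fact.mk hr
  have := Fintype.ofFinite F
  have hf : f ≠ 0 := by
    rintro rfl
    exact (Finite.one_lt_card (α := F)).ne' hq
  have hpq : p ∣ p ^ f := dvd_pow_self p hf
  have hM : 2 * Nat.card PSL(2, F) = p ^ f * ((p ^ f) ^ 2 - 1) := by
    rw [← hq, ← SL2C.card_SL2, ← (center SL(2, F)).card_mul_index, SL2C.card_center_SL2 h2]
    rfl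
  have hdv : ¬ r ∣ p ^ f * ((p ^ f) ^ 2 - 1) := fun h => by
    rw [← hM] at h
    exact (hr.dvd_mul.1 h).elim (fun h1 => hr2 ((Nat.prime_dvd_prime_iff_eq hr Nat.prime_two).1 h1))
      hrP
  let ν : Multiplicative F →* PSL(2, F) := MonoidHom.mk' (fun x => uu x.toAdd) fun x y => by
    rw [toAdd_mul, uu_add]
  have hU : Nat.card ν.range = p ^ f := by
    rw [← Nat.card_congr (MonoidHom.ofInjective (f := ν) fun x y h =>
      Multiplicative.toAdd.injective (uu_inj h)).toEquiv, ← hq]; rfl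
  let U : Sylow p PSL(2, F) := (IsPGroup.of_card hU).toSylow fun h => by
    rw [← ν.range.card_mul_index, hU, mul_left_comm] at hM
    have h3 : p ∣ (p ^ f) ^ 2 - 1 :=
      Nat.eq_of_mul_eq_mul_left (pow_pos hp.out.pos f) hM ▸ Dvd.dvd.mul_left h 2
    exact hp.out.one_lt.ne' (Nat.dvd_one.1 ((Nat.dvd_sub_iff_right (Nat.one_le_pow _ _
      (pow_pos hp.out.pos f)) (dvd_pow hpq two_ne_zero)).1 h3))
  have : Finite (MulAut PSL(2, F)) := Finite.of_injective _ DFunLike.coe_injective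
  obtain ⟨T, hT⟩ := (isPGroup_zpowers_of_pow (p := r) (k := 1) (by rw [pow_one, hα]) :
    IsPGroup r (zpowers α)).nonempty_fixed_point_of_prime_not_dvd_card (Sylow p PSL(2, F))
      fun h => hrP (h.trans (U.card_dvd_index.trans (index_dvd_card _)))
  obtain ⟨g, rfl⟩ := MulAction.exists_smul_eq PSL(2, F) U T
  have hT' : α • MulAut.conj g • U = MulAut.conj g • U := hT ⟨α, mem_zpowers α⟩
  suffices h : (MulAut.conj g)⁻¹ * α * MulAut.conj g = 1 by
    rwa [mul_assoc, inv_mul_eq_one, eq_comm, mul_eq_right] at h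
  have hβ : ((MulAut.conj g)⁻¹ * α * MulAut.conj g) • U = U := by
    rw [mul_smul, mul_smul, hT', inv_smul_smul]
  have hr' : ((MulAut.conj g)⁻¹ * α * MulAut.conj g) ^ r = 1 := by
    rw [← inv_inv (MulAut.conj g), inv_inv (MulAut.conj g)⁻¹, conj_pow, hα]; simp
  generalize (MulAut.conj g)⁻¹ * α * MulAut.conj g = β at hβ hr'
  obtain ⟨c, σ, hc0, hσ⟩ := semi h2 β fun x => by
    have : β (uu x) ∈ ((β • U : Sylow p PSL(2, F)) : Subgroup PSL(2, F)) :=
      ⟨uu x, ⟨Multiplicative.ofAdd x, rfl⟩, rfl⟩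
    rw [hβ] at this
    obtain ⟨y, hy⟩ := this
    exact ⟨y.toAdd, hy.symm⟩
  have h1 : ∀ k : ℕ, ∃ c' : F, (σ = 1 → c' = c ^ k) ∧
      ∀ x, (β ^ k) (uu x) = uu (c' * (σ ^ k) x) := fun k => by
    induction k with
    | zero => exact ⟨1, fun _ => (pow_zero c).symm, fun x => by simp⟩
    | succ k ih =>
      obtain ⟨c', h3, h4⟩ := ih
      refine ⟨c * σ c', fun h => by rw [h3 h, h, pow_succ']; rfl, fun x => ?_⟩
      rw [pow_succ', pow_succ', MulAut.mul_apply, h4, hσ, map_mul, mul_assoc]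
      rfl
  obtain ⟨c', h3, h4⟩ := h1 r
  rw [hr'] at h4
  have h5 : c' = 1 := by simpa using (uu_inj (h4 1)).symm
  have h6 : σ = 1 := by
    have h7 : σ ^ r = 1 := RingEquiv.ext fun x => by simpa [h5] using (uu_inj (h4 x)).symm
    have h9 := orderOf_dvd_natCard σ
    rw [Suz.card_ringAut hq] at h9
    exact orderOf_eq_one_iff.1 (((Nat.dvd_prime hr).1
      (orderOf_dvd_of_pow_eq_one h7)).resolve_right fun e1 => hrf (e1 ▸ h9))
  have h7 : c = 1 := by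
    have h9 : c ^ (p ^ f - 1) = 1 := by
      rw [← hq, Nat.card_eq_fintype_card]
      exact FiniteField.pow_card_sub_one_eq_one c hc0
    refine orderOf_eq_one_iff.1 (((Nat.dvd_prime hr).1 (orderOf_dvd_of_pow_eq_one
      ((h3 h6).symm.trans h5))).resolve_right fun e1 => hdv ?_)
    exact Dvd.dvd.mul_left ((e1 ▸ orderOf_dvd_of_pow_eq_one h9).trans
      (Nat.sub_one_dvd_pow_sub_one _ 2)) _
  refine eq_one_of_fix h2 (fun x => by rw [hσ, h6, h7, one_mul]; rfl) (r := r) ?_ hr'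
  rw [Ne, CharP.cast_eq_zero_iff F p]
  exact fun h => hdv ((((Nat.prime_dvd_prime_iff_eq hp.out hr).1 h).symm.dvd.trans hpq).mul_right _)

omit hq hp in
theorem six_dvd_card (h2 : (2 : F) ≠ 0) : 6 ∣ Nat.card PSL(2, F) := by
  have := Fintype.ofFinite F
  have hM : 2 * Nat.card PSL(2, F) = Nat.card F * (Nat.card F ^ 2 - 1) := by
    rw [← SL2C.card_SL2, ← (center SL(2, F)).card_mul_index, SL2C.card_center_SL2 h2]
    rfl
  have h1 : Nat.card F % 2 = 1 := Nat.card_eq_fintype_card (α := F) ▸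
    FiniteField.odd_card_of_char_ne_two fun e => h2 ((ringChar.spec F 2).2 (e ▸ dvd_rfl))
  generalize Nat.card F = q at hM h1
  have h3 : 12 ∣ q * (q ^ 2 - 1) := by
    obtain ⟨k, rfl⟩ : ∃ k, q = 2 * k + 1 := ⟨q / 2, by omega⟩
    rw [show (2 * k + 1) ^ 2 - 1 = 4 * (k * (k + 1)) from Nat.sub_eq_of_eq_add (by ring),
      mul_left_comm]
    refine Nat.mul_dvd_mul_left 4 (Nat.dvd_of_mod_eq_zero (m := 3) ?_)
    have : k % 3 = 0 ∨ k % 3 = 1 ∨ k % 3 = 2 := by omega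
    rcases this with e | e | e <;> simp [Nat.mul_mod, Nat.add_mod, e]
  omega

/-- the combined statement -/
theorem deg_aut (h8 : p ^ f % 8 = 3 ∨ p ^ f % 8 = 5) (h : ∀ V W : Subgroup PSL(2, F),
    (∀ v ∈ V, ∃ x, v = uu x) → (∀ v ∈ W, ∃ x, v = uu x) → Nat.card V = p ^ 2 →
      Nat.card W = p ^ 2 → ∃ α : MulAut PSL(2, F), W = V.map α.toMonoidHom) :
    (p % 8 = 3 ∨ p % 8 = 5) ∧ (f = 1 ∨ f = 3) ∧ ∀ r : ℕ, r.Prime → ¬ r ∣ Nat.card PSL(2, F) →
      ∀ α : MulAut PSL(2, F), α ^ r = 1 → α = 1 := by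
  obtain ⟨⟨k, hk⟩, hp8⟩ := mod_eight (by rintro rfl; simp at h8) h8
  have h5 := deg_lt_five hq (by omega) h
  have h2 : (2 : F) ≠ 0 := by
    rw [← Nat.cast_ofNat, Ne, CharP.cast_eq_zero_iff F p]
    exact fun h => by have := Nat.le_of_dvd two_pos h; omega
  have h6 := six_dvd_card h2
  have h3 : f = 1 ∨ f = 3 := by omega
  refine ⟨hp8, h3, fun r hr h1 α => aut_eq_one hq h2 hr ?_ h1 fun h4 => h1 (dvd_trans ?_ h6)⟩
  · rintro rfl
    omega
  · exact h4.trans (by rcases h3 with rfl | rfl <;> norm_num)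

end CfsgLib.WApp
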