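import Cfsg.Agent.Lib.JR.Main
import Cfsg.Agent.Lib.H1Stable

/-! Doubly transitive actions of the simple groups with abelian Sylow `2`-subgroups. -/

set_option autoImplicit false

namespace CfsgLib.WApp

open Subgroup Cfsg MulAction

variable {G : Type*} [Group G]

theorem abTwo_of_sylow [Finite G] (P : Sylow 2 G) (hP : IsMulCommutative (P : Subgroup G)) :
    H1.AbTwo G := fun Q hQ => by
  obtain ⟨g, -, hg⟩ := (IsSylowIn.sylow_top P).exists_conj_le hQ le_top
  refine ⟨⟨fun a b => Subtype.ext ?_⟩⟩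
  have h2 : (⟨_, hg (conj_mem_map_conj a.2)⟩ : (P : Subgroup G)) * ⟨_, hg (conj_mem_map_conj b.2)⟩ =
      ⟨_, hg (conj_mem_map_conj b.2)⟩ * ⟨_, hg (conj_mem_map_conj a.2)⟩ := hP.is_comm.comm _ _
  have h3 := congrArg Subtype.val h2
  simp only [coe_mul, conj_mul, mul_left_inj, mul_right_inj] at h3
  exact h3

theorem false_of_two_trans [IsSimpleGroup G]
    (hno : ∀ (Ω : Type) [Fintype Ω] [MulAction G Ω] [FaithfulSMul G Ω],
      ¬ IsMultiplyPretransitive G Ω 2)
    {H : Type*} [Group H] (f : G →* H) (hf : Function.Surjective f) (Ω : Type*) [Finite Ω]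
    [Nontrivial Ω] [MulAction H Ω] (h : IsMultiplyPretransitive H Ω 2) : False := by
  obtain ⟨n, ⟨e⟩⟩ := Finite.exists_equiv_fin Ω
  let φ : G →* Equiv.Perm (Fin n) := e.permCongrHom.toMonoidHom.comp ((toPermHom H Ω).comp f)
  have hφ : ∀ g x, φ g (e x) = e (f g • x) := fun g x => by simp [φ]
  letI : MulAction G (Fin n) := MulAction.compHom _ φ
  have hs : ∀ (g : G) (x : Fin n), g • x = φ g x := fun _ _ => rfl
  rw [is_two_pretransitive_iff] at h
  have hk : φ.ker = ⊥ := (IsSimpleGroup.eq_bot_or_eq_top_of_normal _ inferInstance).resolve_right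
    fun ht => by
      obtain ⟨a, b, hab⟩ := exists_pair_ne Ω
      obtain ⟨g, hg, -⟩ := h hab hab.symm
      obtain ⟨g, rfl⟩ := hf g
      have h1 : φ g = 1 := ht.ge (mem_top g)
      have h2 := hφ g a
      rw [h1, hg] at h2
      exact hab (e.injective h2)
  haveI : FaithfulSMul G (Fin n) :=
    ⟨fun h => (MonoidHom.ker_eq_bot_iff φ).1 hk (Equiv.ext h)⟩
  refine hno (Fin n) (is_two_pretransitive_iff.2 fun {a b c d} hab hcd => ?_)
  obtain ⟨g, h1, h2⟩ := h (e.symm.injective.ne hab) (e.symm.injective.ne hcd)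
  obtain ⟨g, rfl⟩ := hf g
  refine ⟨g, ?_, ?_⟩
  · rw [hs, ← e.apply_symm_apply a, hφ, h1, e.apply_symm_apply]
  · rw [hs, ← e.apply_symm_apply b, hφ, h2, e.apply_symm_apply]

theorem nontrivial_proj (F : Type*) [Field F] : Nontrivial (Projectivization F (Fin 2 → F)) :=
  ⟨Projectivization.mk F ![1, 0] (by simp), Projectivization.mk F ![0, 1] (by simp), fun h => by
    obtain ⟨a, ha⟩ := (Projectivization.mk_eq_mk_iff' F _ _ _ _).1 h
    simpa using congrFun ha 0⟩

theorem two_trans_psl (F : Type*) [Field F] : IsMultiplyPretransitive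
    (Matrix.ProjectiveSpecialLinearGroup (Fin 2) F) (Projectivization F (Fin 2 → F)) 2 := by
  have h : IsMultiplyPretransitive (Matrix.SpecialLinearGroup (Fin 2) F)
    (Projectivization F (Fin 2 → F)) 2 := inferInstance
  rw [is_two_pretransitive_iff] at h ⊢
  intro a b c d hab hcd
  obtain ⟨g, hg⟩ := h hab hcd
  exact ⟨g, hg⟩

/-- the list in Walter's theorem -/
def WList (G : Type*) [Group G] : Prop :=
  (∃ n : ℕ, 2 ≤ n ∧ Nonempty (G ≃* Matrix.SpecialLinearGroup (Fin 2) (GaloisField 2 n))) ∨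
  (∃ (F : Type) (_ : Field F) (_ : Fintype F), 5 ≤ Fintype.card F ∧
    (Fintype.card F % 8 = 3 ∨ Fintype.card F % 8 = 5) ∧
    Nonempty (G ≃* Matrix.ProjectiveSpecialLinearGroup (Fin 2) F)) ∨
  ∃ (t : G) (L : Subgroup G) (q : ℕ), JR.Hyp t L q

theorem card_of_no_two_trans [Finite G] [IsSimpleGroup G] (h : WList G)
    (hno : ∀ (Ω : Type) [Fintype Ω] [MulAction G Ω] [FaithfulSMul G Ω],
      ¬ IsMultiplyPretransitive G Ω 2) : Nat.card G = 175560 := by
  rcases h with ⟨n, -, ⟨e⟩⟩ | ⟨F, _, _, -, -, ⟨e⟩⟩ | ⟨t, L, q, h⟩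
  · have := nontrivial_proj (GaloisField 2 n)
    exact (false_of_two_trans hno e.toMonoidHom e.surjective
      (Projectivization (GaloisField 2 n) (Fin 2 → GaloisField 2 n)) inferInstance).elim
  · have := nontrivial_proj F
    exact (false_of_two_trans hno e.toMonoidHom e.surjective _ (two_trans_psl F)).elim
  rcases h.card with ⟨-, h1⟩ | ⟨n, -, h1, h2⟩
  · exact h1
  have h5 : q ≠ 5 := by rw [h1, pow_succ]; omega
  have := Fact.mk Nat.prime_three
  have : Nontrivial (Sylow 3 G) := by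
    by_contra h3
    have h4 := not_nontrivial_iff_subsingleton.1 h3
    obtain ⟨P⟩ : Nonempty (Sylow 3 G) := inferInstance
    rcases IsSimpleGroup.eq_bot_or_eq_top_of_normal _ P.normal_of_subsingleton with e | e
    · refine P.ne_bot_of_dvd_card ?_ e
      rw [h2]
      exact ((dvd_pow (h1 ▸ dvd_pow_self 3 (by omega)) (by norm_num)).mul_right _).mul_right _
    · obtain ⟨k, hk⟩ := P.2 ⟨t, e.ge (mem_top t)⟩
      have h6 := orderOf_dvd_of_pow_eq_one (congrArg Subtype.val hk : t ^ 3 ^ k = 1)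
      rw [h.ord] at h6
      exact absurd (Nat.prime_two.dvd_of_dvd_pow h6) (by norm_num)
  exact (false_of_two_trans hno (MonoidHom.id G) Function.surjective_id _ (h.two_trans h5)).elim

end CfsgLib.WApp
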