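import Cfsg.Agent.Lib.WApp.Two
import Cfsg.Agent.Lib.WApp.TwoTrans
import Cfsg.Agent.Lib.BSW.MaxCl
import Cfsg.Agent.Lib.BSW.SelfNorm

/-! A weak form of the list in Walter's theorem, and simple normal subgroups of groups in which
abelian subgroups of equal order are conjugate. -/

set_option autoImplicit false

namespace CfsgLib.WApp

open Subgroup Cfsg CfsgLib.CG
open scoped MatrixGroups

/-- two elements of order `3` which no automorphism relates -/
def Three (M : Type*) [Group M] : Prop :=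
  ∃ x y : M, orderOf x = 3 ∧ orderOf y = 3 ∧ ∀ α : MulAut M, α x ∉ zpowers y

/-- the weak list -/
def WL (M : Type*) [Group M] : Prop :=
  (∃ n : ℕ, 2 ≤ n ∧ Nonempty (M ≃* SL(2, GaloisField 2 n))) ∨
  (∃ (F : Type) (_ : Field F) (_ : Fintype F), 5 ≤ Fintype.card F ∧
    (Fintype.card F % 8 = 3 ∨ Fintype.card F % 8 = 5) ∧ Nonempty (M ≃* PSL(2, F))) ∨
  Nat.card M = 175560 ∨ Three M

variable {G : Type*} [Group G] [Finite G]

omit [Finite G] in
theorem three_of_real {y j : G} (hy : orderOf y = 3) (e : j * y * j⁻¹ = y⁻¹) {x : G}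
    (hx : orderOf x = 3) (h : ∀ g : G, g * x * g⁻¹ ≠ x⁻¹) : Three G := by
  refine ⟨x, y, hx, hy, fun α ⟨k, hk⟩ => h (α.symm j) (α.injective ?_)⟩
  simp only at hk
  rw [map_mul, map_mul, map_inv, map_inv, α.apply_symm_apply, ← hk, ← conj_zpow, e, inv_zpow]

theorem WL.of_wList (h : WList G) : WL G := by
  refine h.imp id (Or.imp id ?_)
  rintro ⟨t, L, q, h⟩
  rcases h.card with h1 | ⟨n, hn, hq, -⟩
  · exact Or.inl h1.2
  right
  obtain ⟨y, hy, ho⟩ := h.exists_three (by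
    rintro rfl
    rw [pow_succ] at hq
    omega)
  obtain ⟨q', r, s, p, c, h1, h2, -, rfl⟩ := h.exists_gd
  have : Fact (Nat.Prime 3) := ⟨Nat.prime_three⟩
  obtain ⟨x, hx⟩ := exists_prime_orderOf_dvd_card' (G := c.L) 3 (by
    rw [h1.card, h2, hq, pow_succ, mul_assoc, mul_assoc]
    exact Dvd.dvd.mul_left (Dvd.dvd.mul_right (Dvd.intro_left _ rfl) _) _)
  refine ⟨x, y, (orderOf_coe x).trans hx, hy, fun α hα => ?_⟩
  have h3 : zpowers (α x) = zpowers y := eq_of_le_of_card_ge (zpowers_le.2 hα) (by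
    rw [Nat.card_zpowers, Nat.card_zpowers, α.orderOf_eq, orderOf_coe, hx, hy])
  obtain ⟨k, hk⟩ := h3.ge (mem_zpowers y)
  have h4 : Commute (α t) (α x) := by
    rw [Commute, SemiconjBy, ← map_mul, ← map_mul, h.comm x x.2]
  have h5 : α t ∈ centralizer ({y} : Set G) :=
    mem_centralizer_singleton_iff.2 (hk ▸ (h4.zpow_right k).eq)
  have h6 := Subgroup.orderOf_dvd_natCard _ h5
  rw [α.orderOf_eq, h.ord] at h6
  exact Nat.not_even_iff_odd.2 ho (even_iff_two_dvd.2 h6)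

omit [Finite G] in
theorem not_three {M : Subgroup G} [M.Normal]
    (h : ∀ x y : G, orderOf x = 3 → orderOf y = 3 →
      ∃ g : G, zpowers y = (zpowers x).map (MulAut.conj g).toMonoidHom) : ¬ Three M := by
  rintro ⟨x, y, hx, hy, h1⟩
  obtain ⟨g, hg⟩ := h x y ((orderOf_coe x).trans hx) ((orderOf_coe y).trans hy)
  obtain ⟨k, hk⟩ := hg.ge ⟨x, mem_zpowers _, rfl⟩
  exact h1 (MulAut.conjNormal g) ⟨k, Subtype.ext hk⟩

theorem even_of_simple [IsSimpleGroup G] (hna : ¬ IsMulCommutative G) : Even (Nat.card G) :=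
  Nat.not_odd_iff_even.1 fun h => BSW.not_isSolvable_of_simple hna (FT.feit_thompson h)

theorem card_sylow_of_le {M : Subgroup G} {p : ℕ} [hp : Fact p.Prime] (S : Sylow p G)
    (hS : (S : Subgroup G) ≤ M) {n m : ℕ} (h : Nat.card M = p ^ n * m) (hm : ¬ p ∣ m) :
    Nat.card (S : Subgroup G) = p ^ n := by
  have h0 : m ≠ 0 := by rintro rfl; simp at hm
  rw [← Nat.card_congr (subgroupOfEquivOfLe hS).toEquiv, ← S.coe_subtype hS,
    Sylow.card_eq_multiplicity, h, Nat.factorization_mul (pow_ne_zero _ hp.out.ne_zero) h0,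
    hp.out.factorization_pow]
  simp [Nat.factorization_eq_zero_of_not_dvd hm]

theorem card_sylow_sl2 {M : Subgroup G} (S : Sylow 2 G) (hS : (S : Subgroup G) ≤ M) {n : ℕ}
    (hn : 2 ≤ n) (e : M ≃* SL(2, GaloisField 2 n)) : Nat.card (S : Subgroup G) = 2 ^ n := by
  refine card_sylow_of_le S hS (m := (2 ^ n) ^ 2 - 1) (by
    rw [Nat.card_congr e.toEquiv, SL2C.card_SL2, GaloisField.card 2 n (by omega)]) ?_
  have h1 : 2 ∣ (2 ^ n) ^ 2 := (dvd_pow_self 2 (by omega)).trans (dvd_pow_self _ two_ne_zero)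
  have h2 : 0 < (2 ^ n) ^ 2 := by positivity
  omega

theorem abTwo_of_e2 (h2 : E2 G) (M : Subgroup G) : H1.AbTwo M := fun Q hQ =>
  ⟨⟨fun a b => Subtype.ext (comm_of_sq (fun x hx => by
    obtain ⟨k, hk⟩ := hQ ⟨x, hx⟩
    exact Subtype.ext (h2 x k (congrArg (fun z : Q => ((z : M) : G)) hk))) a.2 b.2)⟩⟩

/-- abelian subgroups of equal order are conjugate -/
def AConj (G : Type*) [Group G] : Prop :=
  ∀ A B : Subgroup G, IsMulCommutative A → IsMulCommutative B → Nat.card A = Nat.card B →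
    ∃ g : G, B = A.map (MulAut.conj g).toMonoidHom

theorem AConj.c2 (h : AConj G) : C2 G := fun H K hH hK =>
  h H K ⟨⟨fun a b => Subtype.ext (comm_of_sq hH a.2 b.2)⟩⟩
    ⟨⟨fun a b => Subtype.ext (comm_of_sq hK a.2 b.2)⟩⟩

theorem AConj.e2 (h : AConj G) {M : Subgroup G} [IsSimpleGroup M] (hna : ¬ IsMulCommutative M) :
    E2 G := by
  intro x k hx
  by_contra h1
  obtain ⟨j, -, hj⟩ := (Nat.dvd_prime_pow Nat.prime_two).1 (orderOf_dvd_of_pow_eq_one hx)
  have h2 : 2 ≤ j := by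
    by_contra h2
    refine h1 ((pow_two x).symm.trans (orderOf_dvd_iff_pow_eq_one.1 ?_))
    rw [hj]
    exact (pow_dvd_pow 2 (by omega)).trans (pow_one 2).dvd
  have h4 : orderOf (x ^ 2 ^ (j - 2)) = 4 := by
    rw [orderOf_pow_of_dvd (by positivity) (hj ▸ pow_dvd_pow 2 (by omega)), hj,
      Nat.pow_div (by omega) two_pos, show j - (j - 2) = 2 by omega]
    rfl
  obtain ⟨t, ht⟩ := exists_prime_orderOf_dvd_card' (G := M) 2
    (even_iff_two_dvd.1 (even_of_simple hna))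
  obtain ⟨u, h5, h6, h7, h8⟩ := BSW.exists_other_involution hna ht
  have f : GW.Four (u : G) t := ⟨(orderOf_coe u).trans (orderOf_eq_prime (by rw [pow_two, h5]) h6),
    (orderOf_coe t).trans ht, congrArg Subtype.val h8, fun e => h7 (Subtype.ext e)⟩
  obtain ⟨g, hg⟩ := h (zpowers (x ^ 2 ^ (j - 2))) (GW.V (u : G) t) inferInstance
    ⟨⟨fun a b => Subtype.ext (f.V_le_cent b.2 a a.2)⟩⟩ (by rw [Nat.card_zpowers, h4, f.card_V])
  refine f.not_cyclic ?_
  rw [hg, MonoidHom.map_zpowers]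
  infer_instance

theorem AConj.list (h : AConj G) {M : Subgroup G} [M.Normal] [IsSimpleGroup M]
    (hna : ¬ IsMulCommutative M) (hW : H1.AbTwo M → WL M) :
    (∃ (F : Type) (_ : Field F) (_ : Fintype F), (Fintype.card F = 2 ^ 2 ∨ Fintype.card F = 2 ^ 3 ∨
      Fintype.card F = 2 ^ 5) ∧ Nonempty (M ≃* SL(2, F))) ∨
    (∃ (F : Type) (_ : Field F) (_ : Fintype F), 5 ≤ Fintype.card F ∧
      (Fintype.card F % 8 = 3 ∨ Fintype.card F % 8 = 5) ∧ Nonempty (M ≃* PSL(2, F))) ∨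
    Spor.IsoJ1 M := by
  have h2 := h.e2 hna
  rcases hW (abTwo_of_e2 h2 M) with ⟨n, hn, ⟨e⟩⟩ | h1 | h1 | h1
  · obtain ⟨S⟩ : Nonempty (Sylow 2 G) := inferInstance
    have h3 := h.c2.rank h2 S (card_sylow_sl2 S
      (fun x hx => h.c2.mem_of_even (even_of_simple hna) (h2.sylow S hx)) hn e) hn
    have := Fintype.ofFinite (GaloisField 2 n)
    refine Or.inl ⟨GaloisField 2 n, inferInstance, this, ?_, ⟨e⟩⟩
    rw [← Nat.card_eq_fintype_card, GaloisField.card 2 n (by omega)]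
    rcases h3 with rfl | rfl | rfl <;> simp
  · exact Or.inr (Or.inl h1)
  · exact Or.inr (Or.inr (J1.isoJ1_of_card h1))
  · exact absurd h1 (not_three fun x y hx hy => h _ _ inferInstance inferInstance (by
      rw [Nat.card_zpowers, Nat.card_zpowers, hx, hy]))

end CfsgLib.WApp
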