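import Cfsg.Agent.Lib.WApp.List
import Cfsg.Agent.Lib.CoreComponents
import Cfsg.Agent.S4020

/-! Groups in which `p`-subgroups of equal order are conjugate: the simple normal subgroup. -/

set_option autoImplicit false

namespace CfsgLib.WApp

open Subgroup Cfsg CfsgLib.CG
open scoped commutatorElement

/-- `p`-subgroups of equal order are conjugate -/
def PConj (G : Type*) [Group G] : Prop :=
  ∀ p : ℕ, p.Prime → ∀ H K : Subgroup G, IsPGroup p H → IsPGroup p K → Nat.card H = Nat.card K →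
    ∃ g : G, K = H.map (MulAut.conj g).toMonoidHom

variable {G : Type*} [Group G] [Finite G]

theorem PConj.of_surjective (h : PConj G) {G' : Type*} [Group G'] (f : G →* G')
    (hf : Function.Surjective f) : PConj G' := by
  have : Finite G' := Finite.of_surjective f hf
  intro p hp H K hH hK hc
  have := Fact.mk hp
  have key : ∀ H : Subgroup G', IsPGroup p H → ∃ S, IsSylowIn p S (H.comap f) ∧ S.map f = H :=
    fun H hH => by
    obtain ⟨S, hS⟩ := IsSylowIn.exists_in (p := p) (H.comap f)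
    have h6 := hS.map f
    rw [map_comap_eq_self_of_surjective hf] at h6
    exact ⟨S, hS, (h6.eq_of_le hH h6.le le_rfl).symm⟩
  have h1 : H.index = K.index := by
    have e1 := H.card_mul_index
    rw [← K.card_mul_index, hc] at e1
    exact Nat.eq_of_mul_eq_mul_left Nat.card_pos e1
  have h2 : Nat.card (H.comap f) = Nat.card (K.comap f) := by
    have e1 := (H.comap f).card_mul_index
    rw [← (K.comap f).card_mul_index, index_comap_of_surjective _ hf,
      index_comap_of_surjective _ hf, h1] at e1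
    exact Nat.eq_of_mul_eq_mul_right (Nat.pos_of_ne_zero index_ne_zero_of_finite) e1
  obtain ⟨S, hS, rfl⟩ := key H hH
  obtain ⟨T, hT, rfl⟩ := key K hK
  obtain ⟨g, rfl⟩ := h p hp S T hS.isPGroup hT.isPGroup (by
    rw [hS.card_eq_ordProj, hT.card_eq_ordProj, h2])
  refine ⟨f g, ?_⟩
  rw [map_map, map_map]
  congr 1
  ext x
  simp

omit [Finite G] in
theorem PConj.c2 (h : PConj G) : C2 G := fun H K hH hK =>
  h 2 Nat.prime_two H K (fun x => ⟨1, Subtype.ext ((pow_two _).trans (hH x x.2))⟩)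
    fun x => ⟨1, Subtype.ext ((pow_two _).trans (hK x x.2))⟩

omit [Finite G] in
theorem PConj.zp (h : PConj G) {r : ℕ} (hr : r.Prime) (x y : G) (hx : orderOf x = r)
    (hy : orderOf y = r) : ∃ g : G, zpowers y = (zpowers x).map (MulAut.conj g).toMonoidHom :=
  have := Fact.mk hr
  h r hr _ _ (IsPGroup.of_card (n := 1) (by rw [Nat.card_zpowers, hx, pow_one]))
    (IsPGroup.of_card (n := 1) (by rw [Nat.card_zpowers, hy, pow_one]))
    (by rw [Nat.card_zpowers, Nat.card_zpowers, hx, hy])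

theorem PConj.mem (h : PConj G) {M : Subgroup G} [hM : M.Normal] {r : ℕ} (hr : r.Prime)
    (hd : r ∣ Nat.card M) {x : G} (hx : x ^ r = 1) : x ∈ M := by
  by_cases h1 : x = 1
  · exact h1 ▸ M.one_mem
  have := Fact.mk hr
  obtain ⟨a, ha⟩ := exists_prime_orderOf_dvd_card' (G := M) r hd
  obtain ⟨g, hg⟩ := h.zp hr a x ((orderOf_coe a).trans ha) (orderOf_eq_prime hx h1)
  obtain ⟨y, hy, rfl⟩ := hg.le (mem_zpowers x)
  exact hM.conj_mem _ (zpowers_le.2 a.2 hy) g

theorem C2.exists_simple (hC : C2 G) (hO : pPrimeCore 2 G = ⊥) (h2 : E2 G) (S : Sylow 2 G)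
    (hN : ¬ (S : Subgroup G).Normal) : ∃ M : Subgroup G, M.Normal ∧ IsSimpleGroup M ∧
      ¬ IsMulCommutative M ∧ (S : Subgroup G) ≤ M ∧ centralizer (M : Set G) = ⊥ := by
  have hS : ∀ N : Subgroup G, N.Normal → N ≠ ⊥ → (S : Subgroup G) ≤ N := fun N _ h x hx =>
    hC.mem_of_even (Nat.not_odd_iff_even.1 fun ho => h (eq_bot_of_odd hO ho)) (h2.sylow S hx)
  have hS0 : (S : Subgroup G) ≠ ⊥ := fun e => hN (e ▸ inferInstance)
  have hF : fittingSubgroup G = ⊥ := by
    rw [fitting_eq_pCore_of_pPrimeCore_eq_bot hO]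
    by_contra h
    exact hN (le_antisymm (pCore_le_sylow S) (hS _ inferInstance h) ▸ inferInstance)
  have : Nontrivial G := by
    have := (nontrivial_iff_ne_bot _).2 hS0
    exact (S : Subgroup G).subtype_injective.nontrivial
  obtain ⟨M, hM⟩ := exists_isMinNormal (G := G)
  obtain ⟨K, hK, -⟩ := hM.exists_component fun h =>
    hM.2.1 (le_bot_iff.1 (hF ▸ hM.le_fitting_of_isSolvable h))
  have hZ : center K = ⊥ := by
    have h1 := (map_mono (center_le_fitting (G := K))).trans (map_fitting_le_of_isSubnormal hK.1)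
    rwa [hF, le_bot_iff, map_eq_bot_iff_of_injective _ K.subtype_injective] at h1
  have hc : ∀ a ∈ K, a ∈ centralizer (K : Set G) → a = 1 := fun a ha h =>
    congrArg Subtype.val (mem_bot.1 (hZ.le (mem_center_iff.2 fun y =>
      Subtype.ext (h y y.2) : (⟨a, ha⟩ : K) ∈ _)))
  have := isSimpleGroup_of_isQuasisimple hK.2 hZ
  have hna : ¬ IsMulCommutative K := fun h =>
    isComponent_not_le_centralizer hK (le_centralizer_iff_isMulCommutative.2 h)
  obtain ⟨a, ha⟩ := exists_prime_orderOf_dvd_card' (G := K) 2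
    (even_iff_two_dvd.1 (even_of_simple hna))
  have ha' : orderOf (a : G) = 2 := (orderOf_coe a).trans ha
  have ha1 : (a : G) ≠ 1 := fun e => by simp [e] at ha'
  have haa := sq_of_mem_zpowers ha' (mem_zpowers _)
  have hcj : ∀ g : G, (∀ x ∈ K, g * x * g⁻¹ ∈ K) ∨
      K.map (MulAut.conj g).toMonoidHom ≤ centralizer (K : Set G) := fun g =>
    (isComponent_eq_or_commutator_eq_bot (isComponent_map_conj hK g) hK).imp
      (fun e x hx => e.le ⟨x, hx, rfl⟩) commutator_eq_bot_iff_le_centralizer.1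
  have hKn : K.Normal := ⟨fun x hx g => (hcj g).elim (fun h => h x hx) fun h => by
    exfalso
    have hb : g * a * g⁻¹ ∈ centralizer (K : Set G) := h ⟨a, a.2, rfl⟩
    have hb1 : g * a * g⁻¹ ≠ 1 := by simpa using ha1
    have hbb : g * a * g⁻¹ * (g * a * g⁻¹) = 1 := by rw [conj_mul, haa]; simp
    generalize g * a * g⁻¹ = b at hb hb1 hbb
    have hab := hb a a.2
    obtain ⟨c, hc'⟩ := hC.conj_inv ha' (b := a * b) (orderOf_eq_prime (by
      rw [(show Commute (a : G) b from hab).mul_pow, pow_two, pow_two, haa, hbb, one_mul])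
      fun e => hb1 (hc b (by rw [eq_inv_of_mul_eq_one_right e]; exact K.inv_mem a.2) hb))
    rcases hcj c with h1 | h1
    · exact hb1 (hc b ((K.mul_mem_cancel_left a.2).1 (hc' ▸ h1 a a.2)) hb)
    · have h3 : (a : G) * b ∈ centralizer (K : Set G) := hc' ▸ h1 ⟨a, a.2, rfl⟩
      exact ha1 (hc a a.2 ((mul_mem_cancel_right hb).1 h3))⟩
  have h1 := hS K hKn (isComponent_ne_bot hK)
  refine ⟨K, hKn, this, hna, h1, ?_⟩
  by_contra h
  exact hS0 (eq_bot_iff.2 fun x hx => hc x (h1 hx) (hS _ inferInstance h hx))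

theorem PConj.coprime (h : PConj G) {M : Subgroup G} [M.Normal] (hp : ⁅M, M⁆ = M)
    (ho : Odd M.index) : (Nat.card M).Coprime M.index := by
  refine Nat.Coprime.symm (Nat.coprime_of_dvd fun r hr h1 h2 => ?_)
  have := Fact.mk hr
  obtain ⟨R⟩ : Nonempty (Sylow r G) := inferInstance
  have h3 : ¬ (R : Subgroup G) ≤ M := fun h3 => R.not_dvd_index (h1.trans (index_dvd_of_le h3))
  rcases Cfsg.Agent.S4020.result h R with hc | hc | ⟨⟨e⟩⟩
  · have hle : (R : Subgroup G) ≤ M ⊔ R := le_sup_right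
    have : IsCyclic (R.subtype hle) :=
      isCyclic_of_surjective _ (subgroupOfEquivOfLe hle).symm.surjective
    rcases (R.subtype hle).not_dvd_card_commutator_or_not_dvd_index_commutator with h4 | h4
    · refine h4 (h2.trans ?_)
      rw [← card_map_of_injective (M ⊔ R : Subgroup G).subtype_injective, map_subtype_commutator]
      exact card_dvd_of_le (hp.ge.trans (commutator_mono le_sup_left le_sup_left))
    · refine h4 (dvd_trans ?_ (index_dvd_of_le (K := M.subgroupOf (M ⊔ R)) ?_))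
      · obtain ⟨k, hk⟩ := IsPGroup.iff_card.1 R.2
        obtain ⟨j, -, hj⟩ := (Nat.dvd_prime_pow hr).1 (hk ▸ relIndex_dvd_card M R)
        change r ∣ M.relIndex _
        rw [relIndex_sup_left, hj]
        refine dvd_pow_self r ?_
        rintro rfl
        exact h3 (relIndex_eq_one.1 hj)
      · rw [_root_.commutator_def, commutator_le]
        intro a _ b _
        obtain ⟨m, hm, x, hx, e1⟩ := mem_sup_of_normal_left.1 a.2
        obtain ⟨m', hm', y, hy, e2⟩ := mem_sup_of_normal_left.1 b.2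
        have h5 : x * y = y * x := congrArg Subtype.val
          (mul_comm' (⟨x, hx⟩ : (R : Subgroup G)) ⟨y, hy⟩)
        rw [mem_subgroupOf, ← QuotientGroup.eq_one_iff]
        change QuotientGroup.mk' M ⁅(a : G), b⁆ = 1
        rw [map_commutatorElement, commutatorElement_eq_one_iff_mul_comm, ← e1, ← e2, map_mul,
          map_mul, QuotientGroup.mk'_apply M m, QuotientGroup.mk'_apply M m',
          (QuotientGroup.eq_one_iff m).2 hm, (QuotientGroup.eq_one_iff m').2 hm', one_mul, one_mul,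
          ← map_mul, h5, map_mul]
  · exact h3 fun x hx => h.mem hr h2 (hc.2 x hx)
  · obtain ⟨k, hk⟩ := IsPGroup.iff_card.1 R.2
    rw [Nat.card_congr e.toEquiv, Nat.card_eq_fintype_card, QuaternionGroup.card] at hk
    have h4 : 2 = r := (Nat.prime_dvd_prime_iff_eq Nat.prime_two hr).1
      (Nat.prime_two.dvd_of_dvd_pow (hk ▸ (by norm_num : 2 ∣ 4 * 2)))
    exact Nat.not_even_iff_odd.2 ho (even_iff_two_dvd.2 (h4 ▸ h1))

theorem eq_top_of_fix {M : Subgroup G} (hc : centralizer (M : Set G) = ⊥)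
    (h : (Nat.card M).Coprime M.index) (hfix : ∀ r : ℕ, r.Prime → ¬ r ∣ Nat.card M →
      ∀ d : G, orderOf d = r → d ∈ centralizer (M : Set G)) : M = ⊤ := by
  by_contra h1
  obtain ⟨r, hr, hd⟩ := Nat.exists_prime_and_dvd (index_eq_one.not.2 h1)
  have := Fact.mk hr
  obtain ⟨d, hd'⟩ := exists_prime_orderOf_dvd_card' (G := G) r (hd.trans M.index_dvd_card)
  have h2 := hfix r hr (fun h2 => hr.one_lt.ne' (Nat.eq_one_of_dvd_coprimes h h2 hd)) d hd'
  rw [hc, mem_bot] at h2
  rw [h2, orderOf_one] at hd'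
  exact hr.one_lt.ne hd'

theorem exists_sylow_norm {M : Subgroup G} [M.Normal] {r : ℕ} (hr : r.Prime)
    (hM : ¬ r ∣ Nat.card M) {d : G} (hd : orderOf d = r) {p : ℕ} [Fact p.Prime] (S : Sylow p G)
    (hS : (S : Subgroup G) ≤ M) :
    ∃ g : G, g * d * g⁻¹ ∈ normalizer ((S : Subgroup G) : Set G) := by
  have := Fact.mk hr
  have h1 : ¬ r ∣ Nat.card (Sylow p G) := fun h => hM (h.trans (by
    rw [S.card_eq_index_normalizer]
    set N := normalizer ((S : Subgroup G) : Set G)
    have e1 := relIndex_mul_index (inf_le_left : N ⊓ M ≤ N)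
    have e2 := relIndex_mul_index (inf_le_right : N ⊓ M ≤ M)
    have e3 : N ⊔ M = ⊤ := S.normalizer_sup_eq_top' hS
    rw [inf_relIndex_left, ← relIndex_sup_right, e3, relIndex_top_right, ← e2, mul_comm] at e1
    change N.index ∣ _
    rw [Nat.eq_of_mul_eq_mul_right (Nat.pos_of_ne_zero index_ne_zero_of_finite) e1]
    exact relIndex_dvd_card _ _))
  obtain ⟨T, hT⟩ := (IsPGroup.of_card (p := r) (G := zpowers d) (n := 1) (by
    rw [Nat.card_zpowers, hd, pow_one])).nonempty_fixed_point_of_prime_not_dvd_card _ h1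
  obtain ⟨g, rfl⟩ := MulAction.exists_smul_eq G S T
  have h2 : d • g • S = g • S := hT ⟨d, mem_zpowers d⟩
  refine ⟨g⁻¹, Sylow.smul_eq_iff_mem_normalizer.1 ?_⟩
  rw [inv_inv, mul_smul, mul_smul, h2, inv_smul_smul]

end CfsgLib.WApp
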