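import Cfsg.Agent.Lib.WApp.Psl
import Cfsg.Agent.Lib.Wal.Walter

/-! No field automorphisms in the Janko–Ree case when abelian `p`-subgroups of equal order are
conjugate under automorphisms. -/

set_option autoImplicit false

namespace CfsgLib.WApp

open Subgroup Cfsg CfsgLib.FT CfsgLib.FT.BGN CfsgLib.GW CfsgLib.Wal
open CfsgLib.FT.U4 (mem_cent1 mem_cent)
open scoped MatrixGroups

universe u

/-- abelian `p`-subgroups of equal order are conjugate under automorphisms -/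
def AutE (G : Type*) [Group G] : Prop :=
  ∀ p : ℕ, p.Prime → ∀ H K : Subgroup G, IsMulCommutative H → IsMulCommutative K → IsPGroup p H →
    IsPGroup p K → Nat.card H = Nat.card K → ∃ α : MulAut G, K = H.map α.toMonoidHom

variable {G : Type u} [Group G] [Finite G] {t : G} {L : Subgroup G} {q : ℕ}

theorem mem_or_of_sq (h : WJR t L q) {u : G} (hu : u * u = 1) (hc : u ∈ 𝐂[t]) :
    u ∈ L ∨ t * u ∈ L :=
  h.mem_or (h.two_le (el_zpowers hu).isPGroup (zpowers_le.2 hc) (mem_zpowers u))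

theorem sq_of_not_cent (h : WJR t L q) (hab : H1.AbTwo G) {x : G} (hx : x ∈ L) {A : Subgroup G}
    (hA : MaxE A ⊤) (hAx : A ≤ 𝐂[x]) : x * x = 1 := by
  have htt := mul_self_of_inv h.ord
  obtain ⟨g, hg, h1⟩ := (hA.mono hAx le_top).exists_conj_mem hab (u := t)
    (U4.mem_cent1_comm.1 (h.le hx)) htt
  have hB : MaxE (g⁻¹ •ᶜ A) ⊤ := hA.cj' (le_normalizer trivial)
  have hBx : g⁻¹ •ᶜ A ≤ 𝐂[x] := ((hA.mono hAx le_top).cj' (le_normalizer (inv_mem hg))).le
  have ht : t ∈ g⁻¹ •ᶜ A := ⟨_, h1, by simp [mul_assoc]⟩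
  generalize g⁻¹ •ᶜ A = B at hB hBx ht
  have h2 : ∀ u ∈ L, u ∈ 𝐂(B ⊓ L) → u ∈ 𝐂(B) := fun u hu hc => mem_cent.2 fun a ha => by
    rcases mem_or_of_sq h (hB.el a ha) (hB.el.le_cent1 ht ha) with e | e
    · exact mem_cent.1 hc a ⟨ha, e⟩
    · have := mem_cent.1 hc _ ⟨mul_mem ht ha, e⟩
      rwa [← mul_assoc, mem_cent1.1 (h.le hu), mul_assoc, mul_assoc, mul_right_inj] at this
  exact hB.el x (h.kt.2 (B ⊓ L) ⟨inf_le_right, hB.el.mono inf_le_left, fun u hu h3 h4 =>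
    ⟨hB.mem u trivial h3 (h2 u hu h4), hu⟩⟩
    ⟨hx, centralizer_le inf_le_left (le_cent1_iff.1 hBx)⟩).1

theorem exists_cent (h : WJR t L q) {k : ℕ} (hk : k.Prime)
    (hd : k ∣ (zpowers t ⊔ L).relIndex 𝐂[t]) :
    ∃ x, x ∈ 𝐂[t] ∧ orderOf x = k ∧ ∃ A, MaxE A ⊤ ∧ A ≤ 𝐂[x] := by
  have := Fact.mk hk
  have htt := mul_self_of_inv h.ord
  have hk2 : k.Coprime 2 := (Nat.coprime_primes hk Nat.prime_two).2 fun e =>
    Nat.not_even_iff_odd.2 h.odd' (even_iff_two_dvd.2 (e ▸ hd))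
  obtain ⟨T, -, hT⟩ := exists_maxE (el_zpowers (one_mul (1 : G))) (zpowers_le.2 L.one_mem)
  have h4 : Nat.card T = 2 ^ 2 := by
    obtain ⟨F, _, _, hq, ⟨e⟩⟩ := h.iso
    have h8 := (psl_E4 (hq ▸ h.mod)).not8
    rw [← Nat.card_congr e.toEquiv] at h8
    obtain ⟨j, hj⟩ := hT.el.isPGroup.exists_card_eq
    have h1 := h.kt.1.four_le hT
    have h2 : ¬ 2 ^ 3 ∣ 2 ^ j := fun e => h8 (e.trans (hj ▸ card_dvd_of_le hT.le))
    rw [Nat.pow_dvd_pow_iff_le_right one_lt_two] at h2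
    rw [hj] at h1 ⊢
    interval_cases j <;> omega
  obtain ⟨a, b, ha, hb, hab⟩ := exists_two_ne h4 le_rfl
  have f : Four (a : G) b := hT.el.four a.2 b.2 (fun e => ha (Subtype.ext e))
    (fun e => hb (Subtype.ext e)) fun e => hab (Subtype.ext e)
  have hV : V (a : G) b = T := eq_of_le_of_card_ge (V_le a.2 b.2) (by rw [h4, f.card_V]; rfl)
  have : ((zpowers t ⊔ L).subgroupOf 𝐂[t]).Normal :=
    normal_subgroupOf_of_le_normalizer (H1.le_normalizer_sup
      ((U4.cent_zpowers t).ge.trans (cent_le_norm _)) h.norm)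
  obtain ⟨g, hg⟩ := exists_prime_orderOf_dvd_card' (G := 𝐂[t] ⧸ (zpowers t ⊔ L).subgroupOf 𝐂[t])
    k hd
  obtain ⟨g, rfl⟩ := QuotientGroup.mk'_surjective _ g
  obtain ⟨l, hl, h1⟩ := (h.kt.1.sylow hT).frattini_elem (h.norm g.2)
  obtain ⟨n, hn, h2⟩ := h.kt.1.trans hT (conj_mem_of_mem_normalizer h1 a.2) a.2
    (U4.conj_ne_one_iff.2 f.t1) f.t1
  let z : 𝐂[t] := ⟨n * l, h.le (mul_mem hn.1 hl)⟩ * g
  have h3 : (z : G) ∈ 𝐍(T) := by simpa [z, mul_assoc] using mul_mem hn.2 h1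
  have h5 : (z : G) * a * (z : G)⁻¹ = a := by simpa [z, mul_assoc] using h2
  have h6 : orderOf (QuotientGroup.mk' ((zpowers t ⊔ L).subgroupOf 𝐂[t]) (z ^ 2)) = k := by
    rw [map_pow, map_mul, QuotientGroup.mk'_apply, (QuotientGroup.eq_one_iff _).2
      (mem_subgroupOf.2 (mem_sup_right (mul_mem hn.1 hl))), one_mul,
      Nat.Coprime.orderOf_pow (hg.symm ▸ hk2), hg]
  have h7 : (z : G) ^ 2 ∈ 𝐂(T) := by
    rw [← hV, cent_V, pow_two]
    have ha' : (z : G) ∈ 𝐂[(a : G)] := mem_cent1.2 (mul_inv_eq_iff_eq_mul.1 h5)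
    refine ⟨mul_mem ha' ha', mem_cent1.2 (mul_inv_eq_iff_eq_mul.1 ?_)⟩
    have e0 : (z : G) * z * b * ((z : G) * z)⁻¹ = z * ((z : G) * b * (z : G)⁻¹) * (z : G)⁻¹ := by
      group
    rcases f.mem_V.1 (hV.ge (conj_mem_of_mem_normalizer h3 b.2)) with e | e | e | e
    · exact absurd (by simpa using e) f.s1
    · rw [← h5, mul_left_inj, mul_right_inj] at e
      exact absurd e.symm f.ne
    · rw [e0, e, e]
    · rw [e0, e, ← _root_.conj_mul, h5, e, ← mul_assoc, f.tt, one_mul]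
  obtain ⟨x, hx, hx'⟩ := JR.exists_prime_pow (g := (z : G) ^ 2) (k := k) (by
    rw [← coe_pow, orderOf_coe, ← h6]; exact orderOf_map_dvd _ _)
  have h8 : x ∈ 𝐂[t] := zpowers_le.2 (z ^ 2).2 hx
  refine ⟨x, h8, hx', T ⊔ zpowers t, ⟨le_top, hT.el.sup (el_zpowers htt)
    (zpowers_le.2 (le_cent1_iff.1 (hT.le.trans h.le))), fun u _ hu hc => ?_⟩,
    sup_le (le_cent1_iff.2 (zpowers_le.2 h7 hx)) (zpowers_le.2 (U4.mem_cent1_comm.1 h8))⟩
  have h9 : u ∈ 𝐂[t] := cent_le_cent1 (mem_sup_right (mem_zpowers t)) hc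
  have h10 : u ∈ 𝐂(T) := centralizer_le (le_sup_left : T ≤ _) hc
  rcases mem_or_of_sq h hu h9 with e | e
  · exact mem_sup_left (hT.mem u e hu h10)
  · have := hT.mem _ e (by
      rw [mul_assoc, ← mul_assoc u, mem_cent1.1 h9, mul_assoc, hu, mul_one, htt])
      (mul_mem (le_cent1_iff.1 (hT.le.trans h.le)) h10)
    exact (mul_mem_cancel_left (mem_sup_right (mem_zpowers t))).1 (mem_sup_left this)

theorem AutE.hyp [IsSimpleGroup G] (hA : AutE G) (hab : H1.AbTwo G) (h : WJR t L q) :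
    JR.Hyp t L q := by
  have htt := mul_self_of_inv h.ord
  refine ⟨h.ord, fun x hx => mem_cent1.1 (h.le hx), h.notMem, fun g hg => h.mem_or ?_, h.odd,
    J1.index_ne_two fun e => by have := h.eight_dvd; omega, h.iso, h.mod, h.five_le⟩
  refine relIndex_eq_one.1 ?_ (mem_cent1.2 hg)
  by_contra h1
  obtain ⟨k, hk, hd⟩ := Nat.exists_prime_and_dvd h1
  have := Fact.mk hk
  have hk2 : k ≠ 2 := fun e => Nat.not_even_iff_odd.2 h.odd' (even_iff_two_dvd.2 (e ▸ hd))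
  have hsq : ∀ y : G, orderOf y = k → y * y ≠ 1 := fun y hy e => hk2
    ((Nat.prime_dvd_prime_iff_eq hk Nat.prime_two).1
      (hy ▸ orderOf_dvd_of_pow_eq_one ((pow_two y).trans e)))
  obtain ⟨x, hx, hxk, A, hA1, hA2⟩ := exists_cent h hk hd
  have hL : ¬ k ∣ Nat.card L := fun h2 => by
    obtain ⟨y, hy⟩ := exists_prime_orderOf_dvd_card' k h2
    rw [← orderOf_coe] at hy
    obtain ⟨α, hα⟩ := hA k hk (zpowers x) (zpowers y) inferInstance inferInstance
      (JR.isPGroup_zpowers hxk) (JR.isPGroup_zpowers hy)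
      (by rw [Nat.card_zpowers, Nat.card_zpowers, hxk, hy])
    have h3 := hA1.map (f := α.toMonoidHom) α.injective
    rw [map_top_of_surjective _ α.surjective] at h3
    refine hsq y hy (sq_of_not_cent h hab y.2 h3 ?_)
    rintro _ ⟨a, ha, rfl⟩
    obtain ⟨w, hw, e⟩ := hα.le (mem_zpowers (y : G))
    rw [mem_cent1, ← e, ← map_mul, ← map_mul,
      mem_cent.1 ((U4.cent_zpowers x).ge (hA2 ha)) w hw]
  obtain ⟨F, _, _, hq, ⟨e⟩⟩ := h.iso
  obtain ⟨p, _, ⟨f, hf⟩, hp, hF⟩ := FiniteField.card' F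
  have := Fact.mk hp
  have h2 := GW.PA.two_ne_zero_of_card (hq ▸ h.mod)
  obtain ⟨-, -, h3⟩ := psl_amb (Nat.card_eq_fintype_card.trans hF) (hF ▸ hq ▸ h.mod) e
    fun V W hV hW cV cW => by
    have hcm : ∀ V : Subgroup G, (∀ v ∈ V, ∃ x, v = e.symm (uu x)) → IsMulCommutative V :=
      fun V hV => ⟨⟨fun a b => Subtype.ext (by
        obtain ⟨x, hx⟩ := hV a a.2
        obtain ⟨y, hy⟩ := hV b b.2
        rw [coe_mul, coe_mul, hx, hy, ← coe_mul, ← coe_mul, ← map_mul, ← map_mul, ← uu_add,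
          ← uu_add, add_comm])⟩⟩
    have hle : ∀ V : Subgroup G, (∀ v ∈ V, ∃ x, v = e.symm (uu x)) → V ≤ 𝐂[t] := fun V hV v hv =>
      let ⟨_, hx⟩ := hV v hv; h.le (hx ▸ (e.symm _).2)
    obtain ⟨β, hβ⟩ := hA p hp V W (hcm V hV) (hcm W hW) (IsPGroup.of_card cV)
      (IsPGroup.of_card cW) (cV.trans cW.symm)
    obtain ⟨w, hw, hw1⟩ := exists_mem_ne_one (X := W) ((one_lt_card_iff_ne_bot W).1
      (cW ▸ Nat.one_lt_pow two_ne_zero hp.one_lt))
    obtain ⟨y, rfl⟩ := hW w hw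
    have key : ∀ r ∈ L, r * r = 1 → r ∈ 𝐂(W) → r = 1 := fun r hr h4 h5 => by
      obtain ⟨s, hs⟩ := cent_uu (x := y) (y := e ⟨r, hr⟩) (by
        rintro rfl
        exact hw1 (by simp [uu_zero])) (e.symm.injective (Subtype.ext (by
          simpa using (mem_cent.1 h5 _ hw).symm)))
      have h6 : uu (s + s) = uu 0 := by
        rw [uu_add, ← hs, ← map_mul, uu_zero, ← map_one e]
        exact congrArg e (Subtype.ext h4)
      rw [(mul_eq_zero.1 ((two_mul s).trans (uu_inj h6))).resolve_left h2, uu_zero,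
        EmbeddingLike.map_eq_one_iff] at hs
      exact congrArg Subtype.val hs
    have htW : t ∈ 𝐂(W) := le_cent1_iff.1 (hle W hW)
    have hm : MaxE (zpowers t) 𝐂(W) := ⟨zpowers_le.2 htW, el_zpowers htt, fun u hu h4 h5 => by
      rw [U4.cent_zpowers] at h5
      rcases mem_or_of_sq h h4 h5 with e1 | e1
      · rw [key u e1 h4 hu]; exact one_mem _
      · have := key _ e1 (by
          rw [mul_assoc, ← mul_assoc u, mem_cent1.1 h5, mul_assoc, h4, mul_one, htt])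
          (mul_mem htW hu)
        rw [eq_inv_of_mul_eq_one_right this]
        exact inv_mem (mem_zpowers t)⟩
    obtain ⟨c, hc, h4⟩ := hm.exists_conj_mem hab (u := β t) (mem_cent.2 (by
      rw [hβ]
      rintro _ ⟨v, hv, rfl⟩
      exact ((map_mul β v t).symm.trans (congrArg β (mem_cent1.1 (hle V hV hv)))).trans
        (map_mul β t v))) (by rw [← map_mul, htt, map_one])
    have h5 : (MulAut.conj c * β) t = t := ((mem_zpowers_inv h.ord).1 h4).resolve_left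
      (by simpa using ne_one_of_inv h.ord)
    refine ⟨MulAut.conj c * β, ?_, ?_⟩
    · conv_lhs => rw [← h.dJ_eq, ← dJ_map (MulAut.conj c * β).injective,
        ← map_inf_cent1 (MulAut.conj c * β).injective,
        map_top_of_surjective _ (MulAut.conj c * β).surjective]
      exact (congrArg (fun s => dJ (⊤ ⊓ 𝐂[s])) h5).trans h.dJ_eq
    · rw [← map_conj_eq_of_mem_normalizer (cent_le_norm W hc), hβ, map_map]
      rfl
  have h4 := h.cent.le ⟨hx, h3 k hk hL x (h.norm hx) (hxk ▸ pow_orderOf_eq_one x)⟩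
  exact hsq x hxk (el_zpowers htt x h4)

theorem AutE.wl [IsSimpleGroup G] (hA : AutE G) (hna : ¬ IsMulCommutative G) (hab : H1.AbTwo G) :
    WL G :=
  WL.of_wList ((walter' G hna hab).imp id (Or.imp id fun ⟨t, L, q, h⟩ => ⟨t, L, q, hA.hyp hab h⟩))

omit [Finite G] in
theorem autE_of_conj (h : ∀ p : ℕ, p.Prime → ∀ H K : Subgroup G, IsMulCommutative H →
    IsMulCommutative K → IsPGroup p H → IsPGroup p K → Nat.card H = Nat.card K →
      ∃ g : G, K = H.map (MulAut.conj g).toMonoidHom) (M : Subgroup G) [M.Normal] : AutE M := by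
  intro p hp H K h1 h2 h3 h4 h5
  obtain ⟨g, hg⟩ := h p hp (H.map M.subtype) (K.map M.subtype) inferInstance inferInstance
    (h3.map _) (h4.map _) (by
      rw [card_map_of_injective M.subtype_injective, card_map_of_injective M.subtype_injective, h5])
  refine ⟨MulAut.conjNormal g, map_injective M.subtype_injective ?_⟩
  rw [hg, map_map, map_map]
  rfl

end CfsgLib.WApp
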