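import Cfsg.Agent.Lib.WApp.Rank
import Cfsg.Agent.Lib.WApp.WJR

/-! Groups in which `p`-subgroups of equal order are conjugate: the classification modulo the odd
core. -/

set_option autoImplicit false

namespace CfsgLib.WApp

open Subgroup Cfsg CfsgLib.CG
open scoped MatrixGroups

universe u

variable {G : Type u} [Group G] [Finite G]

theorem j1_case {M : Subgroup G} [M.Normal] (hc : centralizer (M : Set G) = ⊥)
    (hcop : (Nat.card M).Coprime M.index) (hM : Nat.card M = 175560) : M = ⊤ := by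
  refine eq_top_of_fix hc hcop fun r hr hrM d hd => ?_
  rw [← zpowers_le, le_centralizer_iff, ← relIndex_eq_one]
  by_contra h1
  obtain ⟨p, hp, h2⟩ := Nat.exists_prime_and_dvd h1
  have := Fact.mk hp
  have h3 : p ∣ Nat.card M := h2.trans (relIndex_dvd_card _ _)
  have hle : ∀ T : Sylow p G, (T : Subgroup G) ≤ M := fun T => by
    obtain ⟨k, hk⟩ := IsPGroup.iff_card.1 T.2
    obtain ⟨j, -, hj⟩ := (Nat.dvd_prime_pow hp).1 (hk ▸ relIndex_dvd_card M T)
    rw [← relIndex_eq_one, hj]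
    rcases j with _ | j
    · rfl
    · exact absurd (Nat.eq_one_of_dvd_coprimes hcop h3 ((dvd_pow_self p j.succ_ne_zero).trans
        (hj ▸ relIndex_dvd_index_of_normal M T))) hp.one_lt.ne'
  obtain ⟨S⟩ : Nonempty (Sylow p G) := inferInstance
  obtain ⟨g, hg⟩ := exists_sylow_norm hr hrM hd S (hle S)
  have hT : d ∈ normalizer ((g⁻¹ • S : Sylow p G) : Set G) := by
    refine Sylow.smul_eq_iff_mem_normalizer.1 ?_
    conv_rhs => rw [← Sylow.smul_eq_iff_mem_normalizer.2 hg]
    simp [← mul_smul, mul_assoc]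
  generalize g⁻¹ • S = T at hT
  have : Finite (MulAut (T : Subgroup G)) := Finite.of_injective _ DFunLike.coe_injective
  have h4 : (T : Subgroup G).normalizerMonoidHom ⟨d, hT⟩ = 1 := by
    refine orderOf_eq_one_iff.1 (((Nat.dvd_prime hr).1 (hd ▸ (orderOf_map_dvd _ _).trans
      (orderOf_coe _).symm.dvd)).resolve_right fun e => hrM ?_)
    have h5 := orderOf_dvd_natCard ((T : Subgroup G).normalizerMonoidHom ⟨d, hT⟩)
    rw [e] at h5
    have h6 : Nat.card (T : Subgroup G) ≤ 11 → r ∣ Nat.card M := fun h => by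
      have h7 := h5.trans (card_dvd_of_injective (MulAut.toPerm _) fun a b h =>
        MulEquiv.toEquiv_injective h)
      rw [Nat.card_perm, hr.dvd_factorial] at h7
      have h8 : r ≤ 11 := h7.trans h
      rw [hM]
      interval_cases r <;> first | (norm_num; done) | norm_num at hr
    rw [hM, show 175560 = 2 ^ 3 * 3 * 5 * 7 * 11 * 19 by norm_num] at h3
    simp only [hp.dvd_mul, hp.prime.dvd_pow_iff_dvd three_ne_zero] at h3
    rcases h3 with ((((h | h) | h) | h) | h) | h <;>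
      obtain rfl := (Nat.prime_dvd_prime_iff_eq hp (by norm_num)).1 h
    · exact h6 ((card_sylow_of_le T (hle T) (n := 3) (m := 21945) hM (by norm_num)).trans_le
        (by norm_num))
    · exact h6 ((card_sylow_of_le T (hle T) (n := 1) (m := 58520) hM (by norm_num)).trans_le
        (by norm_num))
    · exact h6 ((card_sylow_of_le T (hle T) (n := 1) (m := 35112) hM (by norm_num)).trans_le
        (by norm_num))
    · exact h6 ((card_sylow_of_le T (hle T) (n := 1) (m := 25080) hM (by norm_num)).trans_le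
        (by norm_num))
    · exact h6 ((card_sylow_of_le T (hle T) (n := 1) (m := 15960) hM (by norm_num)).trans_le
        (by norm_num))
    · have h7 := card_sylow_of_le T (hle T) (n := 1) (m := 9240) hM (by norm_num)
      have := isCyclic_of_prime_card (p := 19) h7
      rw [IsCyclic.card_mulAut, h7, pow_one, Nat.totient_prime hp] at h5
      rw [hM]
      exact (hr.dvd_of_dvd_pow (n := 2) (h5.trans (by norm_num)))
  have h5 : (T : Subgroup G) ≤ centralizer (zpowers d : Set G) := by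
    rw [le_centralizer_iff, zpowers_le]
    intro x hx
    have := congrArg (fun φ : MulAut (T : Subgroup G) => (φ ⟨x, hx⟩ : G)) h4
    exact (mul_inv_eq_iff_eq_mul.1 this).symm
  exact (IsSylowIn.of_sylow T (hle T)).not_dvd (h2.trans (relIndex_dvd_of_le_left M h5))

theorem cover_pr {F : Type*} [Field F] (h2 : (2 : F) ≠ 0) : Cover (JR.pr F) (-1) :=
  ⟨JR.pr_surj, fun _ => JR.pr_eq_one.trans H5.SL2_mem_center_iff', JR.neg_one_ne h2, fun g hg =>
    JR.pr_eq_one.2 (H5.SL2_mem_center_of_sq h2 ((pow_two g).trans hg))⟩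

theorem PConj.ea_case (hC : PConj G) (hO : pPrimeCore 2 G = ⊥) (h2 : E2 G)
    (S : Sylow 2 G) {n : ℕ} (hn : Nat.card (S : Subgroup G) = 2 ^ n) (hn2 : 2 ≤ n) :
    (n = 3 ∧ (Nonempty (G ≃* affineGroup (GaloisField 2 3)) ∨
      Nonempty (G ≃* semiaffineGroup (GaloisField 2 3)) ∨ IsJ1 G ∨
      Nonempty (G ≃* PSL(2, GaloisField 2 3)))) ∨
    (n = 5 ∧ (Nonempty (G ≃* semiaffineGroup (GaloisField 2 5)) ∨
      Nonempty (G ≃* MulAut PSL(2, GaloisField 2 5)))) ∨
    ∃ (p : ℕ) (_ : Fact p.Prime), (p % 8 = 3 ∨ p % 8 = 5) ∧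
      (Nonempty (G ≃* PSL(2, ZMod p)) ∨ Nonempty (G ≃* PSL(2, GaloisField p 3))) := by
  by_cases hN : (S : Subgroup G).Normal
  · rcases hC.c2.normal_case hO h2 S hn hn2 with ⟨-, ⟨e⟩⟩ | ⟨h, h1⟩ | h
    · obtain ⟨π, hπ⟩ := cover_SL23
      obtain ⟨ε⟩ := J1.nonempty_psl_of_cover hπ
      exact Or.inr (Or.inr ⟨3, ⟨Nat.prime_three⟩, Or.inl rfl, Or.inl ⟨e.trans ε.symm⟩⟩)
    · exact Or.inl ⟨h, h1.imp_right Or.inl⟩
    · exact Or.inr (Or.inl ⟨h.1, Or.inl h.2⟩)
  obtain ⟨M, _, _, hna, hS, hc⟩ := hC.c2.exists_simple hO h2 S hN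
  have hcop := hC.coprime (M := M) (by
    rw [← map_subtype_commutator, BSW.commutator_eq_top_of_simple hna, ← MonoidHom.range_eq_map,
      range_subtype]) (Nat.not_even_iff_odd.1 fun h =>
        S.not_dvd_index ((even_iff_two_dvd.1 h).trans (index_dvd_of_le hS)))
  rcases (autE_of_conj (fun p hp H K _ _ => hC p hp H K) M).wl hna (abTwo_of_e2 h2 M) with
    ⟨m, -, ⟨e⟩⟩ | ⟨F, _, _, -, h8, ⟨e⟩⟩ | h | h
  · rcases hC.rank_one_case (ct_of_sl2 (fun _ => hC.c2.mem_of_even (even_of_simple hna)) e) hO h2 S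
      hN hn hn2 with ⟨-, ⟨ε⟩⟩ | h | h
    · have : Fact (Nat.Prime 5) := ⟨Nat.prime_five⟩
      obtain ⟨ε'⟩ := J1.nonempty_psl_five (ZMod 5) (ZMod.card 5)
      exact Or.inr (Or.inr ⟨5, this, Or.inr rfl, Or.inl ⟨ε.trans ε'.symm⟩⟩)
    · exact Or.inl ⟨h.1, Or.inr (Or.inr (Or.inr h.2))⟩
    · exact Or.inr (Or.inl ⟨h.1, Or.inr h.2⟩)
  · exact Or.inr (Or.inr (hC.psl_case hc hcop h8 e))
  · have h1 := card_sylow_of_le S hS (n := 3) (m := 21945) h (by norm_num)
    obtain rfl := j1_case hc hcop h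
    exact Or.inl ⟨Nat.pow_right_injective le_rfl (hn.symm.trans h1), Or.inr (Or.inr (Or.inl
      ⟨topEquiv.symm.isSimpleGroup, card_top.symm.trans h⟩))⟩
  · exact absurd h (not_three (hC.zp Nat.prime_three))

theorem PConj.quat_case (hC : PConj G) (hO : pPrimeCore 2 G = ⊥) (S : Sylow 2 G)
    (e : (S : Subgroup G) ≃* QuaternionGroup 2) :
    ∃ (p : ℕ) (_ : Fact p.Prime), (p % 8 = 3 ∨ p % 8 = 5) ∧
      (Nonempty (G ≃* SL(2, ZMod p)) ∨ Nonempty (G ≃* SL(2, GaloisField p 3))) := by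
  have hT : ∀ P : Subgroup G, IsPGroup 2 P → ∃ f : P →* QuaternionGroup 2, Function.Injective f :=
    fun P hP => by
      obtain ⟨T, hT⟩ := hP.exists_le_sylow
      exact ⟨(((Sylow.equiv T S).trans e).toMonoidHom).comp (inclusion hT),
        ((Sylow.equiv T S).trans e).injective.comp (inclusion_injective hT)⟩
  have hzp : ∀ (x : G) (k : ℕ), x ^ 2 ^ k = 1 → IsPGroup 2 (zpowers x) := fun x k hx => by
    obtain ⟨j, -, hj⟩ := (Nat.dvd_prime_pow Nat.prime_two).1 (orderOf_dvd_of_pow_eq_one hx)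
    exact IsPGroup.of_card (by rw [Nat.card_zpowers, hj])
  let z : G := e.symm (QuaternionGroup.a 2)
  have hz1 : z ≠ 1 := fun h => by
    have : e.symm (QuaternionGroup.a 2) = 1 := Subtype.ext h
    rw [EmbeddingLike.map_eq_one_iff] at this
    revert this
    decide
  have hzz : z * z = 1 := by
    change ((e.symm (QuaternionGroup.a 2) * e.symm (QuaternionGroup.a 2) : (S : Subgroup G)) : G) = 1
    rw [← map_mul, show (QuaternionGroup.a 2 * QuaternionGroup.a 2 : QuaternionGroup 2) = 1 by decide,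
      map_one, coe_one]
  have hu : Blk.UniqInv z := by
    refine ⟨orderOf_eq_prime (by rw [pow_two, hzz]) hz1, fun s hs hc => ?_⟩
    have hP : IsPGroup 2 (zpowers s ⊔ zpowers z : Subgroup G) := by
      refine IsPGroup.to_sup_of_normal_right' (hzp s 1 hs) (hzp z 1 (by rw [pow_one, pow_two, hzz])) ?_
      refine le_trans ?_ (centralizer_le_normalizer _)
      rw [zpowers_le, mem_centralizer_iff]
      rintro _ ⟨k, rfl⟩
      exact ((show Commute z s from hc.symm).zpow_left k).eq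
    obtain ⟨f, hf⟩ := hT _ hP
    have key : ∀ a b : QuaternionGroup 2, a * a = 1 → b * b = 1 → b ≠ 1 → a = 1 ∨ a = b := by decide
    let s' : (zpowers s ⊔ zpowers z : Subgroup G) := ⟨s, mem_sup_left (mem_zpowers s)⟩
    let z' : (zpowers s ⊔ zpowers z : Subgroup G) := ⟨z, mem_sup_right (mem_zpowers z)⟩
    rcases key (f s') (f z') (by
      rw [← map_mul, ← map_one f]; congr 1; exact Subtype.ext ((pow_two s).symm.trans hs))
      (by rw [← map_mul, ← map_one f]; congr 1; exact Subtype.ext hzz)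
      (fun h => hz1 (congrArg Subtype.val (hf (h.trans (map_one f).symm)))) with h | h
    · exact Or.inl (congrArg Subtype.val (hf (h.trans (map_one f).symm)))
    · exact Or.inr (congrArg Subtype.val (hf h))
  have hcen : ∀ g : G, g * z = z * g := fun g => by
    have := Blk.brauer_suzuki G z hu g
    rw [hO, mem_bot, mul_inv_eq_one, mul_inv_eq_iff_eq_mul] at this
    exact this
  have hZ : zpowers z ≤ center G := zpowers_le.2 (mem_center_iff.2 hcen)
  have hN : (zpowers z).Normal := ⟨fun n hn g => by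
    rw [mem_center_iff.1 (hZ hn) g, mul_inv_cancel_right]; exact hn⟩
  have hc := cover_mk hz1 hzz fun g hg => hu.2 g (by rw [pow_two, hg]) (hcen g)
  have h2 : E2 (G ⧸ zpowers z) := fun x k hx => by
    obtain ⟨x, rfl⟩ := hc.surj x
    rw [← map_pow] at hx
    have h1 : x ^ 2 ^ (k + 1) = 1 := by rw [pow_succ, pow_mul, pow_two, hc.sq' hx]
    obtain ⟨f, hf⟩ := hT _ (hzp x _ h1)
    have key : ∀ a : QuaternionGroup 2, a * a * (a * a) = 1 := by decide
    have h3 : x * x * (x * x) = 1 := by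
      have := key (f ⟨x, mem_zpowers x⟩)
      simp only [← map_mul] at this
      exact congrArg Subtype.val (hf (this.trans (map_one f).symm))
    rw [← map_mul]
    exact hc.uniq _ h3
  obtain ⟨T⟩ : Nonempty (Sylow 2 (G ⧸ zpowers z)) := inferInstance
  have hT4 : Nat.card (T : Subgroup (G ⧸ zpowers z)) = 2 ^ 2 := by
    have h1 : Nat.card (S : Subgroup G) = 2 ^ 3 := by
      rw [Nat.card_congr e.toEquiv, Nat.card_eq_fintype_card, QuaternionGroup.card]; rfl
    rw [S.card_eq_multiplicity, hc.card, Nat.factorization_mul two_ne_zero Nat.card_pos.ne'] at h1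
    have h3 := Nat.pow_right_injective le_rfl h1
    rw [T.card_eq_multiplicity]
    congr 1
    simp [Nat.prime_two.factorization] at h3
    omega
  rcases (hC.of_surjective _ hc.surj).ea_case (pPrimeCore_quotient_central hO hZ) h2 T hT4
    le_rfl with h | h | ⟨p, hp, h8, h⟩
  · exact absurd h.1 (by norm_num)
  · exact absurd h.1 (by norm_num)
  have key : ∀ (F : Type) [Field F] [Finite F] [CharP F p], Nonempty (G ⧸ zpowers z ≃* PSL(2, F)) →
      Nonempty (G ≃* SL(2, F)) := fun F _ _ _ ⟨ε⟩ =>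
    nonempty_equiv_of_cover (hc.comp ε) (cover_pr (by
      rw [← Nat.cast_ofNat, Ne, CharP.cast_eq_zero_iff F p]
      exact fun h => by have := Nat.le_of_dvd two_pos h; omega)) fun a k h => by
        obtain ⟨a, rfl⟩ := ε.surjective a
        rw [← map_mul, h2 a k (ε.injective (by rw [map_pow, h, map_one])), map_one]
  exact ⟨p, hp, h8, h.imp (key _) (key _)⟩

theorem PConj.list (hC : PConj G) (hO : pPrimeCore 2 G = ⊥) :
    (IsCyclic G ∧ IsPGroup 2 G) ∨ Nonempty (G ≃* affineGroup (GaloisField 2 3)) ∨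
    Nonempty (G ≃* semiaffineGroup (GaloisField 2 3)) ∨
    Nonempty (G ≃* semiaffineGroup (GaloisField 2 5)) ∨ IsJ1 G ∨
    Nonempty (G ≃* PSL(2, GaloisField 2 3)) ∨ Nonempty (G ≃* MulAut PSL(2, GaloisField 2 5)) ∨
    ∃ (p : ℕ) (_ : Fact p.Prime), (p % 8 = 3 ∨ p % 8 = 5) ∧
      (Nonempty (G ≃* PSL(2, ZMod p)) ∨ Nonempty (G ≃* PSL(2, GaloisField p 3)) ∨
       Nonempty (G ≃* SL(2, ZMod p)) ∨ Nonempty (G ≃* SL(2, GaloisField p 3))) := by
  obtain ⟨S⟩ : Nonempty (Sylow 2 G) := inferInstance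
  by_cases hc : IsCyclic (S : Subgroup G)
  · exact Or.inl (cyclic_case hO S hc)
  right
  rcases Cfsg.Agent.S4020.result hC S with h | h | ⟨⟨e⟩⟩
  · exact absurd h hc
  · have h2 := e2_of_sylow S fun x hx => (pow_two x).symm.trans (h.2 x hx)
    obtain ⟨n, hn⟩ := IsPGroup.iff_card.1 S.2
    have hn2 : 2 ≤ n := by
      by_contra h3
      have : n < 2 := by omega
      apply hc
      interval_cases n
      · have := (Nat.card_eq_one_iff_unique.1 hn).1
        exact isCyclic_of_subsingleton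
      · exact isCyclic_of_prime_card (p := 2) hn
    rcases hC.ea_case hO h2 S hn hn2 with ⟨-, h | h | h | h⟩ | ⟨-, h | h⟩ | ⟨p, hp, h8, h⟩
    · exact Or.inl h
    · exact Or.inr (Or.inl h)
    · exact Or.inr (Or.inr (Or.inr (Or.inl h)))
    · exact Or.inr (Or.inr (Or.inr (Or.inr (Or.inl h))))
    · exact Or.inr (Or.inr (Or.inl h))
    · exact Or.inr (Or.inr (Or.inr (Or.inr (Or.inr (Or.inl h)))))
    · exact Or.inr (Or.inr (Or.inr (Or.inr (Or.inr (Or.inr ⟨p, hp, h8, h.imp_right Or.inl⟩)))))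
  · obtain ⟨p, hp, h8, h⟩ := hC.quat_case hO S e
    exact Or.inr (Or.inr (Or.inr (Or.inr (Or.inr (Or.inr ⟨p, hp, h8, Or.inr (Or.inr h)⟩)))))

end CfsgLib.WApp
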