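import Cfsg.Agent.Lib.WApp.Min
import Cfsg.Agent.Lib.WApp.Deg
import Cfsg.Agent.Lib.J1.A5

/-! Groups in which `p`-subgroups of equal order are conjugate: the case `PSL₂(q)`, `q` odd. -/

set_option autoImplicit false

namespace CfsgLib.WApp

open Subgroup Cfsg CfsgLib.CG
open scoped MatrixGroups

variable {G : Type*} [Group G]

theorem exists_aut {L : Subgroup G} {P : Type*} [Group P] (e : L ≃* P) (γ : MulAut G)
    (hγ : L.map γ.toMonoidHom = L) : ∃ α : MulAut P, ∀ x, (e.symm (α x) : G) = γ (e.symm x) :=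
  ⟨MulAut.congr e ((γ.subgroupMap L).trans (MulEquiv.subgroupCongr hγ)), fun x => by
    simp only [MulAut.congr_apply, MulEquiv.trans_apply, MulEquiv.symm_apply_apply]; rfl⟩

theorem psl_amb {L : Subgroup G} {F : Type*} [Field F] [Finite F] {p f : ℕ} [Fact p.Prime]
    [CharP F p] (hq : Nat.card F = p ^ f) (h8 : p ^ f % 8 = 3 ∨ p ^ f % 8 = 5) (e : L ≃* PSL(2, F))
    (h : ∀ V W : Subgroup G, (∀ v ∈ V, ∃ x, v = e.symm (uu x)) → (∀ v ∈ W, ∃ x, v = e.symm (uu x)) →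
      Nat.card V = p ^ 2 → Nat.card W = p ^ 2 →
        ∃ γ : MulAut G, L.map γ.toMonoidHom = L ∧ W = V.map γ.toMonoidHom) :
    (p % 8 = 3 ∨ p % 8 = 5) ∧ (f = 1 ∨ f = 3) ∧ ∀ r : ℕ, r.Prime → ¬ r ∣ Nat.card L →
      ∀ d ∈ normalizer (L : Set G), d ^ r = 1 → d ∈ centralizer (L : Set G) := by
  let ψ : PSL(2, F) →* G := L.subtype.comp e.symm.toMonoidHom
  have hψ : Function.Injective ψ := L.subtype_injective.comp e.symm.injective
  have key : ∀ V : Subgroup PSL(2, F), (∀ v ∈ V, ∃ x, v = uu x) →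
      ∀ v ∈ V.map ψ, ∃ x, v = e.symm (uu x) := by
    rintro V hV _ ⟨v, hv, rfl⟩
    obtain ⟨x, rfl⟩ := hV v hv
    exact ⟨x, rfl⟩
  obtain ⟨h1, h2, h3⟩ := deg_aut hq h8 fun V W hV hW cV cW => by
    obtain ⟨γ, h1, h2⟩ := h _ _ (key V hV) (key W hW) ((card_map_of_injective hψ).trans cV)
      ((card_map_of_injective hψ).trans cW)
    obtain ⟨α, hα⟩ := exists_aut e γ h1
    refine ⟨α, map_injective hψ ?_⟩
    rw [h2, map_map, map_map]
    congr 1
    exact MonoidHom.ext fun x => (hα x).symm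
  refine ⟨h1, h2, fun r hr hL d hd hdr x hx => ?_⟩
  obtain ⟨α, hα⟩ := exists_aut e (MulAut.conj d) (map_conj_eq_of_mem_normalizer hd)
  have h4 : ∀ (k : ℕ) x, (e.symm ((α ^ k) x) : G) = (MulAut.conj d ^ k) (e.symm x : G) :=
    fun k => by
    induction k with
    | zero => exact fun _ => rfl
    | succ k ih => exact fun x => by rw [pow_succ, pow_succ, MulAut.mul_apply, ih, hα]; rfl
  have h5 := hα (e ⟨x, hx⟩)
  rw [h3 r hr (Nat.card_congr e.toEquiv ▸ hL) α (MulEquiv.ext fun y => hψ (by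
    have := h4 r y
    rwa [← map_pow, hdr, map_one] at this))] at h5
  exact eq_mul_inv_iff_mul_eq.1 (by simpa using h5)

theorem PConj.psl_case [Finite G] (hC : PConj G) {M : Subgroup G} [hM : M.Normal]
    (hc : centralizer (M : Set G) = ⊥) (hcop : (Nat.card M).Coprime M.index) {F : Type*} [Field F]
    [Fintype F] (h8 : Fintype.card F % 8 = 3 ∨ Fintype.card F % 8 = 5) (e : M ≃* PSL(2, F)) :
    ∃ (p : ℕ) (_ : Fact p.Prime), (p % 8 = 3 ∨ p % 8 = 5) ∧
      (Nonempty (G ≃* PSL(2, ZMod p)) ∨ Nonempty (G ≃* PSL(2, GaloisField p 3))) := by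
  obtain ⟨p, _, ⟨f, hf⟩, hp, hq⟩ := FiniteField.card' F
  have := Fact.mk hp
  have hn : ∀ g, g ∈ normalizer (M : Set G) := fun g => (normalizer_eq_top M).ge (mem_top g)
  obtain ⟨hp8, hf3, h⟩ := psl_amb (Nat.card_eq_fintype_card.trans hq) (hq ▸ h8) e
    fun V W _ _ cV cW => by
      obtain ⟨g, hg⟩ := hC p hp V W (IsPGroup.of_card cV) (IsPGroup.of_card cW) (cV.trans cW.symm)
      exact ⟨_, map_conj_eq_of_mem_normalizer (hn g), hg⟩
  have hT : M = ⊤ := eq_top_of_fix hc hcop fun r hr hrM d hd =>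
    h r hr hrM d (hn d) (hd ▸ pow_orderOf_eq_one d)
  let ε : G ≃* PSL(2, F) := topEquiv.symm.trans ((MulEquiv.subgroupCongr hT.symm).trans e)
  refine ⟨p, this, hp8, hf3.imp ?_ ?_⟩ <;> rintro rfl
  · exact ⟨ε.trans (J1.pslCongr (FiniteField.ringEquivOfCardEq (by rw [hq, ZMod.card]; simp)))⟩
  · have := Fintype.ofFinite (GaloisField p 3)
    exact ⟨ε.trans (J1.pslCongr (FiniteField.ringEquivOfCardEq (by
      rw [hq, ← Nat.card_eq_fintype_card, GaloisField.card p 3 three_ne_zero]; rfl)))⟩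

end CfsgLib.WApp
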