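import Cfsg.Agent.Lib.WApp.Min
import Cfsg.Agent.Lib.H5SL2Even

/-! Groups in which `p`-subgroups of equal order are conjugate: a normal Sylow `2`-subgroup and the
case `SL₂(2ⁿ)`. -/

set_option autoImplicit false

namespace CfsgLib.WApp

open Subgroup Cfsg CfsgLib.Suz CfsgLib.CG

universe u

variable {G : Type u} [Group G] [Finite G]

theorem C2.normal_case (hC : C2 G) (hO : pPrimeCore 2 G = ⊥) (h2 : E2 G) (S : Sylow 2 G)
    [hN : (S : Subgroup G).Normal] {n : ℕ} (hn : Nat.card (S : Subgroup G) = 2 ^ n) (hn2 : 2 ≤ n) :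
    (n = 2 ∧ Nonempty (G ≃* alternatingGroup (Fin 4))) ∨
    (n = 3 ∧ (Nonempty (G ≃* affineGroup (GaloisField 2 3)) ∨
      Nonempty (G ≃* semiaffineGroup (GaloisField 2 3)))) ∨
    (n = 5 ∧ Nonempty (G ≃* semiaffineGroup (GaloisField 2 5))) := by
  obtain ⟨D, hD, hc⟩ := exists_cpl hO h2 S
  obtain ⟨hcases, e, h1, h3, h4, h5⟩ := hC.cpl hD h2 hn hn2
  obtain ⟨ρ, hρ, hρ'⟩ := exists_perm_rep hc hD.faith h1 h3
  have hG := hc.card_mul
  have hF := GaloisField.card 2 n (by omega)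
  have hsemi : ∀ g, ρ g ∈ semiaffineGroup (GaloisField 2 n) := fun g => by
    obtain ⟨⟨x, d⟩, rfl⟩ := hc.2 g
    obtain ⟨c, σ, hc0, h6⟩ := h4 d d.2
    refine ⟨Units.mk0 c hc0, e x, σ, fun y => ?_⟩
    obtain ⟨u, rfl⟩ := h1.2 y
    rw [hρ' x d d.2, h6 u _ rfl]
    rfl
  have hs := card_semiaffine_le _ hF
  rw [hF] at hs
  rw [hn] at hG
  rcases hcases with ⟨rfl, hd⟩ | ⟨rfl, hd | hd⟩ | ⟨rfl, hd⟩
  · refine Or.inl ⟨rfl, H5.nonempty_alt4 (by rw [← hG, hd]; rfl) D hd fun hn => ?_⟩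
    rw [eq_bot_of_odd hO hD.odd, card_bot] at hd
    omega
  · refine Or.inr (Or.inl ⟨rfl, Or.inl (nonempty_equiv_of_card_le ρ hρ (fun g => ?_) ?_)⟩)
    · obtain ⟨⟨x, d⟩, rfl⟩ := hc.2 g
      have : Fact (Nat.Prime 7) := ⟨by norm_num⟩
      obtain ⟨c, hc0, h6⟩ := h5 (IsPGroup.of_card (p := 7) (n := 1) hd).isNilpotent d d.2
      refine ⟨Units.mk0 c hc0, e x, fun y => ?_⟩
      obtain ⟨u, rfl⟩ := h1.2 y
      rw [hρ' x d d.2, h6 u _ rfl]
      rfl
    · have := card_affine_le (GaloisField 2 3)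
      rw [hF] at this
      omega
  · exact Or.inr (Or.inl ⟨rfl, Or.inr (nonempty_equiv_of_card_le ρ hρ hsemi (by omega))⟩)
  · exact Or.inr (Or.inr ⟨rfl, nonempty_equiv_of_card_le ρ hρ hsemi (by omega)⟩)

/-- commuting is transitive on involutions -/
def CT (G : Type*) [Group G] : Prop :=
  ∀ a b c : G, a ≠ 1 → a * a = 1 → b * b = 1 → c * c = 1 → a * b = b * a → a * c = c * a →
    b * c = c * b

theorem CT.mem_norm (hC : CT G) (h2 : E2 G) (S : Sylow 2 G) {u g : G}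
    (hu : u ∈ (S : Subgroup G)) (hu1 : u ≠ 1) (h : g * u * g⁻¹ ∈ (S : Subgroup G)) :
    g ∈ normalizer ((S : Subgroup G) : Set G) := by
  have hsq : ∀ x ∈ (S : Subgroup G), x * x = 1 := fun _ h => h2.sylow S h
  refine mem_normalizer_fintype fun x hx => ?_
  have h1 : g * x * g⁻¹ * (g * x * g⁻¹) = 1 := by rw [conj_mul, hsq x hx]; simp
  refine mem_sylow_of_norm S h1 (centralizer_le_normalizer _ fun y hy => ?_)
  exact hC _ _ _ (by simpa using hu1) (hsq _ h) (hsq y hy) h1 (comm_of_sq hsq h hy)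
    (by rw [conj_mul, conj_mul, comm_of_sq hsq hu hx])

omit [Finite G] in
theorem ct_of_sl2 {M : Subgroup G} (hM : ∀ x : G, x * x = 1 → x ∈ M) {F : Type*} [Field F]
    [CharP F 2] (e : M ≃* Matrix.SpecialLinearGroup (Fin 2) F) : CT G := by
  intro a b c h1 ha hb hc hab hac
  have := H5.SL2_commute_trans (A := e ⟨a, hM a ha⟩) (B := e ⟨b, hM b hb⟩) (C := e ⟨c, hM c hc⟩)
    (by
      rw [H5.center_SL2_eq_bot, mem_bot, EmbeddingLike.map_eq_one_iff]
      exact fun e => h1 (congrArg Subtype.val e))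
    (by rw [← map_mul, ← map_mul]; exact congrArg e (Subtype.ext hab))
    (by rw [← map_mul, ← map_mul]; exact congrArg e (Subtype.ext hac))
  rw [← map_mul, ← map_mul] at this
  exact congrArg Subtype.val (e.injective this)

theorem CT.exists_RO (hC : CT G) (hO : pPrimeCore 2 G = ⊥) (h2 : E2 G) (S : Sylow 2 G)
    (hN : ¬ (S : Subgroup G).Normal) {n : ℕ} (hn : Nat.card (S : Subgroup G) = 2 ^ n)
    (hn2 : 2 ≤ n) : ∃ t, RO (normalizer ((S : Subgroup G) : Set G)) S t ∧ Rank2 (S : Subgroup G) ∧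
      (normalizer ((S : Subgroup G) : Set G)).normalCore = ⊥ := by
  set H := normalizer ((S : Subgroup G) : Set G) with hH
  have hsq : ∀ x ∈ (S : Subgroup G), x * x = 1 := fun _ h => h2.sylow S h
  have hne : H ≠ ⊤ := fun h => hN (normalizer_eq_top_iff.1 h)
  have hkey : ∀ u g : G, u ≠ 1 → u * u = 1 → u ∈ H → g * u * g⁻¹ ∈ H → g ∈ H :=
    fun u g h1 h3 hu hg => hC.mem_norm h2 S (mem_sylow_of_norm S h3 hu) h1
      (mem_sylow_of_norm S (by rw [conj_mul, h3]; simp) hg)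
  have hse : IsStronglyEmbedded H := by
    refine ⟨hne, Even.trans_dvd (by rw [hn]; exact (even_two.pow_of_ne_zero (by omega)))
      (card_dvd_of_le le_normalizer), fun g hg => SE.odd_of_forall ?_⟩
    rintro _ ⟨h1, v, hv, rfl⟩ hu
    refine hg (hkey v g (fun e => hu.2 (by simp [e])) ?_ hv h1)
    have := hu.1
    rw [← map_mul] at this
    exact (MulAut.conj g).injective (this.trans (map_one _).symm)
  have hs : Group.IsSolvable H := by
    have : IsMulCommutative ((S : Subgroup G).subgroupOf H) :=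
      ⟨⟨fun x y => Subtype.ext (Subtype.ext (comm_of_sq hsq x.2 y.2))⟩⟩
    refine isSolvable_of_normal_of_quotient ((S : Subgroup G).subgroupOf H)
      isSolvable_of_isMulCommutative (FT.feit_thompson ?_)
    rw [← Nat.not_even_iff_odd, even_iff_two_dvd]
    exact fun h => S.not_dvd_index (h.trans (relIndex_dvd_index_of_le le_normalizer))
  have hc : H.normalCore = ⊥ := by
    refine eq_bot_of_odd hO (SE.odd_of_forall fun u hu hu' => hne ?_)
    rw [eq_top_iff]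
    intro g _
    exact hkey u g hu'.2 hu'.1 (normalCore_le H hu) (hu g)
  obtain ⟨a, b, ha, hb, hab⟩ : ∃ a b : (S : Subgroup G), a ≠ 1 ∧ b ≠ 1 ∧ a ≠ b := by
    have := Fintype.ofFinite (S : Subgroup G)
    have h4 : 2 < Fintype.card (S : Subgroup G) := by
      rw [← Nat.card_eq_fintype_card, hn]
      exact lt_of_lt_of_le (by norm_num) (Nat.pow_le_pow_right two_pos hn2)
    obtain ⟨x, y, z, h1, h3, h5⟩ := Fintype.two_lt_card_iff.1 h4
    by_cases hx : x = 1
    · exact ⟨y, z, hx ▸ h1.symm, hx ▸ h3.symm, h5⟩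
    by_cases hy : y = 1
    · exact ⟨x, z, hx, hy ▸ h5.symm, h3⟩
    · exact ⟨x, y, hx, hy, h1⟩
  obtain ⟨Q, t, R, hR⟩ := SE.bender_tc hse hs hc
    ⟨a, mem_top _, b, mem_top _, ⟨hsq a a.2, fun e => ha (Subtype.ext e)⟩,
      ⟨hsq b b.2, fun e => hb (Subtype.ext e)⟩, fun e => hab (Subtype.ext e),
      comm_of_sq hsq a.2 b.2⟩
    fun u hu v hv h3 h4 => comm_of_sq hsq (mem_sylow_of_norm S h3 hu) (mem_sylow_of_norm S h4 hv)
  have hQ : Q = S := (S.is_maximal' (R.isPGroup_two hR) fun x hx =>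
    R.mem_Q_of_invol (le_normalizer hx) (hsq x hx))
  subst hQ
  exact ⟨t, R, hR, hc⟩

theorem PConj.rank_one_case (hC : PConj G) (hT : CT G) (hO : pPrimeCore 2 G = ⊥) (h2 : E2 G) (S : Sylow 2 G)
    (hN : ¬ (S : Subgroup G).Normal) {n : ℕ} (hn : Nat.card (S : Subgroup G) = 2 ^ n)
    (hn2 : 2 ≤ n) :
    (n = 2 ∧ Nonempty (G ≃* alternatingGroup (Fin 5))) ∨
    (n = 3 ∧ Nonempty (G ≃* Matrix.ProjectiveSpecialLinearGroup (Fin 2) (GaloisField 2 3))) ∨
    (n = 5 ∧ Nonempty (G ≃*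
      MulAut (Matrix.ProjectiveSpecialLinearGroup (Fin 2) (GaloisField 2 5)))) := by
  obtain ⟨t, R, hR, hc⟩ := hT.exists_RO hO h2 S hN hn hn2
  set H := normalizer ((S : Subgroup G) : Set G) with hH
  have hsq : ∀ x ∈ (S : Subgroup G), x * x = 1 := fun _ h => h2.sylow S h
  have hD : Cpl S (Dg H t) := ⟨Dg_le, R.odd, R.dec, fun d hd h => by
    have := R.mem_normalCore_iff.2 ⟨hd, h⟩
    rwa [hc, mem_bot] at this⟩
  obtain ⟨hcases, -⟩ := hC.c2.cpl hD h2 hn hn2
  have := simple_closure R hR hc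
  set M := normalClosure ((S : Subgroup G) : Set G) with hM
  have ht : t ∈ M := t_mem_closure R hR
  have hQ : (S : Subgroup G) ≤ M := le_normalClosure
  have RM := R.sub_of_le ht hQ
  have hRM : Rank2 ((S : Subgroup G).subgroupOf M) := by rwa [rank2_subgroupOf, inf_eq_left.2 hQ]
  have hsqM : ∀ x ∈ (S : Subgroup G).subgroupOf M, x * x = 1 := fun x hx =>
    Subtype.ext (hsq x hx)
  obtain ⟨hK, m, -, hm, hDM, -, ⟨ε⟩⟩ := RM.simple_of_sq hRM hsqM
  have hmn : m = n := by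
    rw [card_subgroupOf_eq, inf_eq_left.2 hQ, hn] at hm
    exact (Nat.pow_right_injective le_rfl hm).symm
  subst hmn
  have hG := R.card_G
  have hGM := RM.card_G
  rw [hn] at hG
  rw [hm] at hGM
  rcases hcases with ⟨rfl, hd⟩ | ⟨rfl, hd | hd⟩ | ⟨rfl, hd⟩
  · have hi : Nat.card (G ⧸ H) = 5 := by
      have := R.index_H
      rwa [hn] at this
    let e : G ⧸ H ≃ Fin 5 := Finite.equivFinOfCardEq hi
    let f : G →* Equiv.Perm (Fin 5) :=
      e.permCongrHom.toMonoidHom.comp (MulAction.toPermHom G (G ⧸ H))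
    have hf : Function.Injective f := by
      refine e.permCongrHom.injective.comp ?_
      rw [← MonoidHom.ker_eq_bot_iff, ← normalCore_eq_ker, hc]
    obtain ⟨π, h1, h3⟩ := exists_alt5 f (by
      rw [(MonoidHom.ker_eq_bot_iff f).2 hf, card_bot, hG, hd]; rfl)
    exact Or.inl ⟨rfl, ⟨MulEquiv.ofBijective π ⟨(injective_iff_map_eq_one _).2 fun g hg =>
      (injective_iff_map_eq_one _).1 hf g ((h3 g).1 hg), h1⟩⟩⟩
  · have h7 : Nat.card (Dg (H.subgroupOf M) ⟨t, ht⟩) = 7 := by omega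
    have hT : M = ⊤ := eq_top_of_card_eq M (by rw [hG, hGM, hd, h7])
    exact Or.inr (Or.inl ⟨rfl, ⟨topEquiv.symm.trans ((MulEquiv.subgroupCongr hT.symm).trans ε)⟩⟩)
  · exfalso
    have h7 : Nat.card (Dg (H.subgroupOf M) ⟨t, ht⟩) = 7 := by omega
    have : Fact (Nat.Prime 3) := ⟨Nat.prime_three⟩
    obtain ⟨d, hd3⟩ := exists_prime_orderOf_dvd_card' (G := Dg H t) 3 (by rw [hd]; norm_num)
    have hdM : (d : G) ∈ M := hC.mem Nat.prime_three (by rw [hGM, h7]; norm_num)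
      (by rw [← hd3, ← orderOf_coe, pow_orderOf_eq_one])
    have h1 : (⟨d, hdM⟩ : M) ∈ Dg (H.subgroupOf M) ⟨t, ht⟩ := by
      rw [Dg_subgroupOf]; exact d.2
    have h3 := Subgroup.orderOf_dvd_natCard _ h1
    rw [h7, ← orderOf_coe, orderOf_coe d, hd3] at h3
    norm_num at h3
  · have h7 : Nat.card (Dg (H.subgroupOf M) ⟨t, ht⟩) = 31 := by omega
    have hf : Function.Injective (MulAut.conjNormal (H := M)) := by
      rw [← MonoidHom.ker_eq_bot_iff]
      refine eq_bot_of_odd hO (Nat.not_even_iff_odd.1 fun he => ?_)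
      have h1 : MulAut.conjNormal (H := M) t = 1 := (R.le_normal_of_even hR he).1
      obtain ⟨x, hx, -, -, hx1, -⟩ := hR
      have h3 := MulAut.conjNormal_apply t (⟨x, hQ hx⟩ : M)
      rw [h1] at h3
      exact R.t_notMem (R.mem_H_of_comm hx hx1 (eq_mul_inv_iff_mul_eq.1 h3))
    have : Finite (MulAut M) := Finite.of_injective _ DFunLike.coe_injective
    have hle := card_mulAut_le RM hRM hsqM hK hm
    exact Or.inr (Or.inr ⟨rfl, ⟨(MulEquiv.ofBijective _ (hf.bijective_of_nat_card_le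
      (by omega))).trans (MulAut.congr ε)⟩⟩)

end CfsgLib.WApp
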