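import Cfsg.Agent.Lib.CG.Main

/-! Groups in which elementary abelian `2`-subgroups of equal order are conjugate. -/

set_option autoImplicit false

namespace CfsgLib.WApp

open Subgroup Cfsg CfsgLib.Suz CfsgLib.CG

variable {G : Type*} [Group G] [Finite G]

/-- Burnside's fusion lemma for an abelian Sylow subgroup -/
theorem fusion {p : ℕ} [Fact p.Prime] (S : Sylow p G)
    (hS : ∀ x ∈ (S : Subgroup G), ∀ y ∈ (S : Subgroup G), x * y = y * x) {B : Set G}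
    (hB : ∀ b ∈ B, b ∈ (S : Subgroup G)) {g : G} (hg : ∀ b ∈ B, g * b * g⁻¹ ∈ (S : Subgroup G)) :
    ∃ n ∈ normalizer ((S : Subgroup G) : Set G), ∀ b ∈ B, n * b * n⁻¹ = g * b * g⁻¹ := by
  have h1 : (S : Subgroup G) ≤ centralizer ((fun b => g * b * g⁻¹) '' B) := by
    rintro x hx _ ⟨b, hb, rfl⟩
    exact hS _ (hg b hb) x hx
  have h2 : ((g • S : Sylow p G) : Subgroup G) ≤ centralizer ((fun b => g * b * g⁻¹) '' B) := by
    rintro _ ⟨x, hx, rfl⟩ _ ⟨b, hb, rfl⟩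
    change g * b * g⁻¹ * (g * x * g⁻¹) = g * x * g⁻¹ * (g * b * g⁻¹)
    rw [conj_mul, conj_mul, hS b (hB b hb) x hx]
  obtain ⟨c, hc⟩ := MulAction.exists_smul_eq (centralizer ((fun b => g * b * g⁻¹) '' B))
    ((g • S).subtype h2) (S.subtype h1)
  simp_rw [Sylow.smul_subtype, Subgroup.smul_def, smul_smul] at hc
  refine ⟨c * g, Sylow.smul_eq_iff_mem_normalizer.mp (Sylow.subtype_injective hc), fun b hb => ?_⟩
  have := c.2 _ ⟨b, hb, rfl⟩
  calc c * g * b * (c * g)⁻¹ = c * (g * b * g⁻¹) * (c : G)⁻¹ := by group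
    _ = _ := by rw [← this, mul_inv_cancel_right]

/-- subgroups of exponent at most `2` and equal order are conjugate -/
def C2 (G : Type*) [Group G] : Prop :=
  ∀ H K : Subgroup G, (∀ x ∈ H, x * x = 1) → (∀ x ∈ K, x * x = 1) → Nat.card H = Nat.card K →
    ∃ g : G, K = H.map (MulAut.conj g).toMonoidHom

omit [Finite G] in
theorem sq_of_mem_zpowers {a x : G} (ha : orderOf a = 2) (hx : x ∈ zpowers a) : x * x = 1 := by
  rcases (GW.mem_zpowers_inv ha).1 hx with rfl | rfl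
  · exact one_mul 1
  · rw [← pow_two, ← ha, pow_orderOf_eq_one]

omit [Finite G] in
theorem C2.conj_inv (h : C2 G) {a b : G} (ha : orderOf a = 2) (hb : orderOf b = 2) :
    ∃ g : G, g * a * g⁻¹ = b := by
  obtain ⟨g, hg⟩ := h (zpowers a) (zpowers b) (fun _ => sq_of_mem_zpowers ha)
    (fun _ => sq_of_mem_zpowers hb) (by rw [Nat.card_zpowers, Nat.card_zpowers, ha, hb])
  obtain ⟨x, hx, e⟩ := hg.le (mem_zpowers b)
  rcases (GW.mem_zpowers_inv ha).1 hx with rfl | rfl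
  · rw [← e, map_one, orderOf_one] at hb
    omega
  · exact ⟨g, e⟩

theorem C2.mem_of_even (h : C2 G) {M : Subgroup G} [hM : M.Normal] (he : Even (Nat.card M)) {x : G}
    (hx : x * x = 1) : x ∈ M := by
  by_cases h1 : x = 1
  · exact h1 ▸ M.one_mem
  obtain ⟨a, ha⟩ := exists_prime_orderOf_dvd_card' (G := M) 2 (even_iff_two_dvd.1 he)
  obtain ⟨g, rfl⟩ := h.conj_inv ((orderOf_coe a).trans ha)
    (orderOf_eq_prime (by rw [pow_two, hx]) h1)
  exact hM.conj_mem _ a.2 g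

omit [Finite G] in
theorem exists_two_ne {V : Type*} [Group V] [Finite V] {n : ℕ} (hn : Nat.card V = 2 ^ n)
    (hn2 : 2 ≤ n) : ∃ a b : V, a ≠ 1 ∧ b ≠ 1 ∧ a ≠ b := by
  have := Fintype.ofFinite V
  have h4 : 2 < Fintype.card V := by
    rw [← Nat.card_eq_fintype_card, hn]
    exact lt_of_lt_of_le (by norm_num) (Nat.pow_le_pow_right two_pos hn2)
  obtain ⟨x, y, z, h1, h3, h5⟩ := Fintype.two_lt_card_iff.1 h4
  by_cases hx : x = 1
  · exact ⟨y, z, hx ▸ h1.symm, hx ▸ h3.symm, h5⟩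
  by_cases hy : y = 1
  · exact ⟨x, z, hx, hy ▸ h5.symm, h3⟩
  · exact ⟨x, y, hx, hy, h1⟩

theorem C2.lin (hC : C2 G) (h2 : E2 G) (S : Sylow 2 G) {n : ℕ}
    (hn : Nat.card (S : Subgroup G) = 2 ^ n) (hn2 : 2 ≤ n) {Y : Type*} [Group Y] [Finite Y]
    (φ : Y →* MulAut (S : Subgroup G)) (hφ : Function.Injective φ) (hodd : Odd (Nat.card Y))
    (hY : ∀ g ∈ normalizer ((S : Subgroup G) : Set G), ∃ y, ∀ v : (S : Subgroup G),
      (φ y v : G) = g * v * g⁻¹) :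
    ((n = 2 ∧ Nat.card Y = 3) ∨ (n = 3 ∧ (Nat.card Y = 7 ∨ Nat.card Y = 21)) ∨
      (n = 5 ∧ Nat.card Y = 155)) ∧
    ∃ e : ↥(S : Subgroup G) → GaloisField 2 n, Function.Bijective e ∧
      (∀ v w, e (v * w) = e v + e w) ∧
      (∀ y, ∃ (c : GaloisField 2 n) (σ : GaloisField 2 n ≃+* GaloisField 2 n), c ≠ 0 ∧
        ∀ v, e (φ y v) = c * σ (e v)) ∧
      (∀ y ∈ fittingSubgroup Y, ∃ c : GaloisField 2 n, c ≠ 0 ∧ ∀ v, e (φ y v) = c * e v) := by
  have hsq : ∀ x ∈ (S : Subgroup G), x * x = 1 := fun _ h => h2.sylow S h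
  have hcm : ∀ x ∈ (S : Subgroup G), ∀ y ∈ (S : Subgroup G), x * y = y * x :=
    fun _ hx _ hy => comm_of_sq hsq hx hy
  let _ : CommGroup (S : Subgroup G) := { mul_comm := fun x y => Subtype.ext (hcm x x.2 y y.2) }
  have hV : ∀ v : (S : Subgroup G), v * v = 1 := fun v => Subtype.ext (hsq v v.2)
  have hord : ∀ v : (S : Subgroup G), v ≠ 1 → orderOf (v : G) = 2 := fun v hv =>
    orderOf_eq_prime (by rw [pow_two, hsq v v.2]) fun e => hv (Subtype.ext e)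
  have hfus : ∀ (B : Set G) (g : G), (∀ b ∈ B, b ∈ (S : Subgroup G)) →
      (∀ b ∈ B, g * b * g⁻¹ ∈ (S : Subgroup G)) →
      ∃ y, ∀ v : (S : Subgroup G), (v : G) ∈ B → (φ y v : G) = g * v * g⁻¹ := fun B g h1 h3 => by
    obtain ⟨m, hm, e⟩ := fusion S hcm h1 h3
    obtain ⟨y, hy⟩ := hY m hm
    exact ⟨y, fun v hv => (hy v).trans (e v hv)⟩
  have htr : ∀ a b : (S : Subgroup G), a ≠ 1 → b ≠ 1 → ∃ y, φ y a = b := fun a b ha hb => by
    obtain ⟨g, e⟩ := hC.conj_inv (hord a ha) (hord b hb)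
    obtain ⟨y, hy⟩ := hfus {(a : G)} g (by simp) (by simp [e])
    exact ⟨y, Subtype.ext ((hy a rfl).trans e)⟩
  obtain ⟨a₀, b₀, ha₀, hb₀, hab₀⟩ := exists_two_ne hn hn2
  have hfour : ∀ a b : (S : Subgroup G), a ≠ 1 → b ≠ 1 → a ≠ b → GW.Four (a : G) b :=
    fun a b ha hb hab => ⟨hord a ha, hord b hb, hcm _ a.2 _ b.2, fun e => hab (Subtype.ext e)⟩
  have hle : ∀ a b : (S : Subgroup G), GW.V (a : G) b ≤ S := fun a b => GW.V_le a.2 b.2
  have hgal := exists_galois hφ hodd hV hn (by omega) htr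
  refine ⟨card_cases hφ hodd hV hn hn2 htr (a₀ := a₀) (b₀ := b₀) fun a b ha hb hab => ?_, hgal⟩
  have f0 := hfour a₀ b₀ ha₀ hb₀ hab₀
  obtain ⟨g, hg⟩ := hC _ _ (fun x hx => hsq x (hle _ _ hx)) (fun x hx => hsq x (hle _ _ hx))
    (f0.card_V.trans (hfour a b ha hb hab).card_V.symm)
  obtain ⟨y, hy⟩ := hfus (GW.V (a₀ : G) b₀) g (hle _ _) fun x hx =>
    hle _ _ (hg.ge ⟨x, hx, rfl⟩)
  have key : ∀ c : (S : Subgroup G), c ≠ 1 → (c : G) ∈ GW.V (a : G) b →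
      ∃ x ∈ ({a₀, b₀, a₀ * b₀} : Set (S : Subgroup G)), φ y x = c := by
    intro c hc hc'
    obtain ⟨x, hx, e⟩ := hg.le hc'
    have e1 : φ y ⟨x, hle _ _ hx⟩ = c := Subtype.ext ((hy ⟨x, hle _ _ hx⟩ hx).trans e)
    refine ⟨_, ?_, e1⟩
    rcases f0.mem_V.1 hx with rfl | rfl | rfl | rfl
    · exact absurd (Subtype.ext (by simpa using e.symm)) hc
    · exact Or.inl rfl
    · exact Or.inr (Or.inl rfl)
    · exact Or.inr (Or.inr rfl)
  obtain ⟨x, hx, e1⟩ := key a ha (GW.t_mem_V _ _)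
  obtain ⟨x', hx', e2⟩ := key b hb (GW.s_mem_V _ _)
  exact ⟨y, x, hx, x', hx', e1, e2⟩

theorem C2.rank (hC : C2 G) (h2 : E2 G) (S : Sylow 2 G) {n : ℕ}
    (hn : Nat.card (S : Subgroup G) = 2 ^ n) (hn2 : 2 ≤ n) : n = 2 ∨ n = 3 ∨ n = 5 := by
  have : Finite (MulAut (S : Subgroup G)) := Finite.of_injective _ DFunLike.coe_injective
  have := (hC.lin h2 S hn hn2 (S : Subgroup G).normalizerMonoidHom.range.subtype
    (subtype_injective _) ?_ fun g hg => ⟨⟨_, ⟨g, hg⟩, rfl⟩, fun v => rfl⟩).1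
  · omega
  rw [← index_ker, ← Nat.not_even_iff_odd, even_iff_two_dvd, normalizerMonoidHom_ker]
  refine fun h => S.not_dvd_index ((h.trans (relIndex_dvd_of_le_left _ ?_)).trans
    (relIndex_dvd_index_of_le le_normalizer))
  exact fun x hx y hy => comm_of_sq (fun _ h => h2.sylow S h) hy hx

theorem C2.cpl {S : Sylow 2 G} {D : Subgroup G} (h : Cpl S D) (hC : C2 G) (h2 : E2 G) {n : ℕ}
    (hn : Nat.card (S : Subgroup G) = 2 ^ n) (hn2 : 2 ≤ n) :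
    ((n = 2 ∧ Nat.card D = 3) ∨ (n = 3 ∧ (Nat.card D = 7 ∨ Nat.card D = 21)) ∨
      (n = 5 ∧ Nat.card D = 155)) ∧
    ∃ e : ↥(S : Subgroup G) → GaloisField 2 n, Function.Bijective e ∧
      (∀ v w, e (v * w) = e v + e w) ∧
      (∀ d ∈ D, ∃ (c : GaloisField 2 n) (σ : GaloisField 2 n ≃+* GaloisField 2 n), c ≠ 0 ∧
        ∀ v w : (S : Subgroup G), (w : G) = d * v * d⁻¹ → e w = c * σ (e v)) ∧
      (Group.IsNilpotent D → ∀ d ∈ D, ∃ c : GaloisField 2 n, c ≠ 0 ∧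
        ∀ v w : (S : Subgroup G), (w : G) = d * v * d⁻¹ → e w = c * e v) := by
  let φ : D →* MulAut (S : Subgroup G) :=
    (S : Subgroup G).normalizerMonoidHom.comp (inclusion h.le)
  have hφa : ∀ (d : D) (v : (S : Subgroup G)), (φ d v : G) = d * v * (d : G)⁻¹ := fun _ _ => rfl
  have hφ : Function.Injective φ := by
    rw [injective_iff_map_eq_one]
    intro d hd
    refine Subtype.ext (h.faith d d.2 fun x hx => ?_)
    have := hφa d ⟨x, hx⟩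
    rw [hd] at this
    exact eq_mul_inv_iff_mul_eq.1 this
  obtain ⟨h0, e, h1, h3, h4, h5⟩ := hC.lin h2 S hn hn2 φ hφ h.odd fun g hg => by
    obtain ⟨d, hd, hd'⟩ := h.exists_D h2 hg
    exact ⟨⟨d, hd⟩, fun v => hd' v v.2⟩
  refine ⟨h0, e, h1, h3, fun d hd => ?_, fun hD d hd => ?_⟩
  · obtain ⟨c, σ, hc, h6⟩ := h4 ⟨d, hd⟩
    exact ⟨c, σ, hc, fun v w e' => by rw [← h6]; congr 1; exact Subtype.ext e'⟩
  · have hF : (⊤ : Subgroup D) ≤ fittingSubgroup D :=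
      le_sSup ⟨inferInstance, (Group.isNilpotent_congr topEquiv).2 hD⟩
    obtain ⟨c, hc, h6⟩ := h5 ⟨d, hd⟩ (hF (mem_top _))
    exact ⟨c, hc, fun v w e' => by rw [← h6]; congr 1; exact Subtype.ext e'⟩

end CfsgLib.WApp
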